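import Cfsg.Agent.SuzRecognition.Seventh

/-!
# The last relator from the involutions centralising five of the generators
-/

set_option autoImplicit false
set_option linter.unusedSectionVars false

namespace CfsgLib.SuzRecognition

variable {G : Type*} [Group G]

theorem conj_zpow_of_sq {x w : G} (hxx : x * x = 1) {i : ℤ} (h : x * w * x = w ^ i) (n : ℤ) :
    x * w ^ n * x = w ^ (i * n) := by
  have hx : x⁻¹ = x := inv_of_sq hxx
  rw [zpow_mul, ← h]
  conv_rhs => rw [show x * w * x = x * w * x⁻¹ by rw [hx], conj_zpow, hx]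

/-- An element normalised by three involutions generating a perfect group is centralised. -/
theorem commute_of_zpowers {a b c w : G} (ha : a * a = 1) (hb : b * b = 1) (hc : c * c = 1)
    (hab : (a * b) ^ 5 = 1) (hbc : (b * c) ^ 3 = 1) (habc : (a * b * c) ^ 5 = 1)
    (h : ∀ x ∈ ([a, b, c] : List G), w * x * w⁻¹ * x ∈ Subgroup.zpowers w) :
    a * w = w * a ∧ b * w = w * b ∧ c * w = w * c := by
  have hex : ∀ x ∈ ([a, b, c] : List G), x * x = 1 → ∃ i : ℤ, x * w * x = w ^ i := by
    intro x hx hxx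
    obtain ⟨k, hk⟩ := Subgroup.mem_zpowers_iff.1 (h x hx)
    refine ⟨1 - k, ?_⟩
    have e : x * w⁻¹ * x = w ^ (k - 1) := by
      rw [sub_eq_neg_add, zpow_add, hk, zpow_neg_one]
      group
    have e' : x * w * x = (x * w⁻¹ * x)⁻¹ := by simp [inv_of_sq hxx, mul_assoc]
    rw [e', e, ← zpow_neg, neg_sub]
  obtain ⟨i, hi⟩ := hex a (by simp) ha
  obtain ⟨j, hj⟩ := hex b (by simp) hb
  obtain ⟨k, hk⟩ := hex c (by simp) hc
  obtain ⟨n, hn⟩ : ∃ n, n = orderOf w := ⟨_, rfl⟩
  have hz : ∀ p q : ℤ, w ^ p = w ^ q ↔ (p : ZMod n) = (q : ZMod n) := fun p q => by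
    rw [zpow_eq_zpow_iff_modEq, hn, ZMod.intCast_eq_intCast_iff]
  have hsq : ∀ {x : G} {m : ℤ}, x * x = 1 → x * w * x = w ^ m →
      (m : ZMod n) * (m : ZMod n) = 1 := by
    intro x m hxx hm
    rw [← Int.cast_mul, ← Int.cast_one, ← hz, zpow_one, ← conj_zpow_of_sq hxx hm m, ← hm,
      show x * (x * w * x) * x = (x * x) * w * (x * x) by group, hxx, one_mul, mul_one]
  let act : G → ℤ → Prop := fun y m => ∀ p : ℤ, y * w ^ p * y⁻¹ = w ^ (m * p)
  have hbase : ∀ {x : G} {m : ℤ}, x * x = 1 → x * w * x = w ^ m → act x m :=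
    fun hxx hm p => by rw [inv_of_sq hxx]; exact conj_zpow_of_sq hxx hm p
  have hmul : ∀ {y y' : G} {m m' : ℤ}, act y m → act y' m' → act (y * y') (m * m') := by
    intro y y' m m' h1 h2 p
    rw [show y * y' * w ^ p * (y * y')⁻¹ = y * (y' * w ^ p * y'⁻¹) * y⁻¹ by group, h2, h1, mul_assoc]
  have hpow : ∀ {y : G} {m : ℤ} (r : ℕ), act y m → act (y ^ r) (m ^ r) := by
    intro y m r h1
    induction r with
    | zero => intro p; simp
    | succ r ih => rw [pow_succ, pow_succ]; exact hmul ih h1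
  have hrel : ∀ {y : G} {m : ℤ} (r : ℕ), act y m → y ^ r = 1 → (m : ZMod n) ^ r = 1 := by
    intro y m r h1 hy
    have := hpow r h1 1
    rw [hy, one_mul, inv_one, mul_one, mul_one] at this
    rw [← Int.cast_pow, ← Int.cast_one, ← hz]
    exact this.symm
  have r1 := hrel 5 (hmul (hbase ha hi) (hbase hb hj)) hab
  have r2 := hrel 3 (hmul (hbase hb hj) (hbase hc hk)) hbc
  have r3 := hrel 5 (hmul (hmul (hbase ha hi) (hbase hb hj)) (hbase hc hk)) habc
  have si := hsq ha hi
  have sj := hsq hb hj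
  have sk := hsq hc hk
  push_cast at r1 r2 r3
  have eij : (i : ZMod n) * j = 1 := by
    calc (i : ZMod n) * j = ((i : ZMod n) * i) ^ 2 * ((j : ZMod n) * j) ^ 2 * (i * j) := by
          rw [si, sj]; ring
      _ = ((i : ZMod n) * j) ^ 5 := by ring
      _ = 1 := r1
  have ejk : (j : ZMod n) * k = 1 := by
    calc (j : ZMod n) * k = ((j : ZMod n) * j) * ((k : ZMod n) * k) * (j * k) := by rw [sj, sk]; ring
      _ = ((j : ZMod n) * k) ^ 3 := by ring
      _ = 1 := r2
  have ek : (k : ZMod n) = 1 := by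
    calc (k : ZMod n) = ((k : ZMod n) * k) ^ 2 * k := by rw [sk]; ring
      _ = ((i : ZMod n) * j * k) ^ 5 := by rw [eij]; ring
      _ = 1 := r3
  have ej : (j : ZMod n) = 1 := by rw [ek, mul_one] at ejk; exact ejk
  have ei : (i : ZMod n) = 1 := by rw [ej, mul_one] at eij; exact eij
  have fin : ∀ {x : G} {m : ℤ}, x * x = 1 → x * w * x = w ^ m → (m : ZMod n) = 1 →
      x * w = w * x := by
    intro x m hxx hm e
    have hw : x * w * x = w := by
      rw [hm, (hz m 1).2 (by rw [Int.cast_one]; exact e), zpow_one]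
    calc x * w = x * w * x * x := by rw [mul_assoc (x * w), hxx, mul_one]
      _ = w * x := by rw [hw]
  exact ⟨fin ha hi ei, fin hb hj ej, fin hc hk ek⟩

/-- An element of a dihedral group of order ten which commutes with the generators is trivial. -/
theorem eq_one_of_dihedral [Finite G] {a b y : G} (ha : a * a = 1) (hb : b * b = 1)
    (hab : (a * b) ^ 5 = 1) (hne : a * b ≠ b * a) (hy : y ∈ Subgroup.closure ({a, b} : Set G))
    (hya : y * a = a * y) (hyb : y * b = b * y) : y = 1 := by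
  obtain ⟨r, hr⟩ : ∃ r, r = a * b := ⟨_, rfl⟩
  have har : a * r = r⁻¹ * a := by
    rw [hr, mul_inv_rev, inv_of_sq ha, inv_of_sq hb, mul_assoc b a a, ha, ← mul_assoc, ha, one_mul,
      mul_one]
  have hinv : r⁻¹ = r ^ 4 := inv_eq_of_mul_eq_one_right (by rw [← pow_succ', hr, hab])
  have hsemi : ∀ k : ℕ, a * r ^ k = (r⁻¹) ^ k * a := fun k =>
    (SemiconjBy.pow_right (show SemiconjBy a r r⁻¹ from har) k).eq
  have hform : ∀ x ∈ Subgroup.closure ({a, b} : Set G), ∃ k : ℕ, x = r ^ k ∨ x = r ^ k * a := by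
    intro x hx
    rw [← Subgroup.mem_toSubmonoid, Subgroup.closure_toSubmonoid_of_finite] at hx
    induction hx using Submonoid.closure_induction_left with
    | one => exact ⟨0, Or.inl (pow_zero r).symm⟩
    | mul_left s hs x _ ih =>
      obtain ⟨k, hk⟩ := ih
      have hA : ∃ k', a * x = r ^ k' ∨ a * x = r ^ k' * a := by
        refine ⟨4 * k, ?_⟩
        rcases hk with rfl | rfl
        · right; rw [hsemi, hinv, ← pow_mul]
        · left; rw [← mul_assoc, hsemi, hinv, ← pow_mul, mul_assoc, ha, mul_one]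
      rcases hs with rfl | rfl
      · exact hA
      · have hb' : s = r⁻¹ * a := by
          rw [hr, mul_inv_rev, inv_of_sq ha, inv_of_sq hb, mul_assoc, ha, mul_one]
        obtain ⟨k', hk'⟩ := hA
        refine ⟨4 + k', ?_⟩
        rw [hb', mul_assoc, hinv]
        rcases hk' with e | e
        · left; rw [e, pow_add]
        · right; rw [e, pow_add, mul_assoc]
  obtain ⟨k, hk⟩ := hform y hy
  have hodd : (r ^ k) * (r ^ k) = 1 → r ^ k = 1 := fun h => by
    have h5 : (r ^ k) ^ 5 = 1 := by rw [← pow_mul, mul_comm, pow_mul, hr, hab, one_pow]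
    have h5' : r ^ k * r ^ k * (r ^ k * r ^ k) * r ^ k = 1 := by rw [← h5]; simp [pow_succ, mul_assoc]
    rwa [h, one_mul, one_mul] at h5'
  have hra : r ^ k * a = a * r ^ k → r ^ k = 1 := fun h => hodd (by
    rw [hsemi, inv_pow] at h
    have := mul_right_cancel h
    calc r ^ k * r ^ k = r ^ k * (r ^ k)⁻¹ := by rw [← this]
      _ = 1 := mul_inv_cancel _)
  rcases hk with rfl | rfl
  · exact hra hya
  · exfalso
    have h1 : r ^ k * a = a * r ^ k := mul_right_cancel (hya.trans (mul_assoc _ _ _).symm)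
    rw [hra h1, one_mul] at hyb
    exact hne hyb

/-- The last relator. -/
theorem Rels.seventh [Finite G] {a b c d e f g : G} (R : Rels a b c d e f g)
    (h5 : (a * b * c) ^ 5 = 1) (hab : a * b ≠ b * a) (hde : d ≠ e) {u : G}
    (huu : u * u = 1) (heu : e * u = u * e)
    (hC : ∀ i, i * i = 1 → i * b = b * i → i * c = c * i → i * f = f * i → i * g = g * i →
      i = 1 ∨ i = e ∨ i = u ∨ i = e * u)
    (R' : Rels a b c d e g f) :
    (sevenWord b c d * e) ^ 3 = 1 := by
  obtain ⟨hwa, hwb, hwc⟩ := commute_of_zpowers R.aa R.bb R.cc R.ab R.bc h5 (R.seven_comm_zpowers h5)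
  have hw3 : sevenWord b c d ^ 3 = 1 := eq_one_of_dihedral R.aa R.bb R.ab hab (R.seven_cube_mem h5)
    (Commute.pow_left (Commute.symm hwa) 3).eq (Commute.pow_left (Commute.symm hwb) 3).eq
  have hf := R.seven_conj_mem
  have hg := R'.seven_conj_mem
  have hfix := R.conj_comm_of_seven
  obtain ⟨w, hw⟩ : ∃ w, w = sevenWord b c d := ⟨_, rfl⟩
  rw [← hw] at hwa hwb hwc hw3 hf hg hfix ⊢
  -- conjugation by `w` keeps the centralised set
  have hstep : ∀ i, Commute i a → Commute i b → Commute i c → Commute i f → Commute i g →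
      Commute (w * i * w⁻¹) a ∧ Commute (w * i * w⁻¹) b ∧ Commute (w * i * w⁻¹) c ∧
      Commute (w * i * w⁻¹) f ∧ Commute (w * i * w⁻¹) g := by
    intro i h1 h2 h3 h4 h6
    have hfix : ∀ {x}, Commute x w → Commute i x → Commute (w * i * w⁻¹) x := fun {x} hx hix => by
      have := (Commute.conj_iff w).2 hix
      rwa [← hx.eq, mul_inv_cancel_right] at this
    have hcl : ∀ {x}, Commute i x → (w⁻¹ * x * w) ∈ Subgroup.closure ({a, b, c, x} : Set G) →
        Commute (w * i * w⁻¹) x := fun {x} hix hx => by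
      have hle : Subgroup.closure ({a, b, c, x} : Set G) ≤ Subgroup.centralizer ({i} : Set G) := by
        rw [Subgroup.closure_le]
        intro y hy
        simp only [Set.mem_insert_iff, Set.mem_singleton_iff] at hy
        rw [SetLike.mem_coe, Subgroup.mem_centralizer_singleton_iff]
        rcases hy with rfl | rfl | rfl | rfl
        exacts [h1.symm.eq, h2.symm.eq, h3.symm.eq, hix.symm.eq]
      have hc' : Commute i (w⁻¹ * x * w) :=
        (Subgroup.mem_centralizer_singleton_iff.1 (hle hx)).symm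
      have := (Commute.conj_iff w).2 hc'
      rwa [show w * (w⁻¹ * x * w) * w⁻¹ = x by group] at this
    exact ⟨hfix hwa h1, hfix hwb h2, hfix hwc h3, hcl h4 hf, hcl h6 hg⟩
  obtain ⟨p1, p2, p3, p4, p5⟩ := hstep e (Commute.symm R.ae) (Commute.symm R.be) (Commute.symm R.ce)
    R.ef R.eg
  obtain ⟨q1, q2, q3, q4, q5⟩ := hstep _ p1 p2 p3 p4 p5
  have he1 : e ≠ 1 := fun he => hde (by
    have h3 := R.de
    rw [he, mul_one] at h3
    rw [he]
    calc d = d * d * d := by rw [R.dd, one_mul]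
      _ = 1 := by rw [← h3, pow_succ, pow_two])
  have hsq : ∀ {i : G}, i * i = 1 → w * i * w⁻¹ * (w * i * w⁻¹) = 1 := fun {i} hi => by
    rw [show w * i * w⁻¹ * (w * i * w⁻¹) = w * (i * i) * w⁻¹ by group, hi]; group
  obtain ⟨e1, he1d⟩ : ∃ e1, e1 = w * e * w⁻¹ := ⟨_, rfl⟩
  obtain ⟨e2, he2d⟩ : ∃ e2, e2 = w * e1 * w⁻¹ := ⟨_, rfl⟩
  have hne1 : e1 ≠ e := by
    intro h
    have hwe : w * e = e * w := by rw [← mul_inv_eq_iff_eq_mul, ← he1d, h]
    have hu := hfix hwe
    have hd : d⁻¹ = d := inv_of_sq R.dd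
    have hcx : ∀ {x}, Commute x d → Commute x e → Commute (d * e * d) x := fun h1 h2 =>
      ((h1.mul_right h2).mul_right h1).symm
    have hdc : d * e * d * c = c * (d * e * d) := by
      calc d * e * d * c = d * (e * (d * c * d)) * d := by
            simp [mul_assoc, R.dd]
        _ = d * (d * c * d * e) * d := by rw [hu]
        _ = (d * d) * c * (d * e * d) := by simp [mul_assoc]
        _ = c * (d * e * d) := by rw [R.dd, one_mul]
    have hsq' : d * e * d * (d * e * d) = 1 := by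
      rw [show d * e * d * (d * e * d) = d * e * (d * d) * e * d by group, R.dd, mul_one,
        mul_assoc d e e, R.ee, mul_one, R.dd]
    have h4 := hC _ hsq' (hcx R.bd R.be).eq hdc (hcx R.df.symm R.ef.symm).eq (hcx R.dg.symm R.eg.symm).eq
    have hcomm : d * e * d * e = e * (d * e * d) := by
      rcases h4 with h4 | h4 | h4 | h4 <;> rw [h4]
      · rw [one_mul, mul_one]
      · exact heu.symm
      · rw [← mul_assoc, R.ee, one_mul, mul_assoc, ← heu, ← mul_assoc, R.ee, one_mul]
    have h2 : (d * e) ^ 3 * (d * e) = 1 := by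
      rw [show (d * e) ^ 3 * (d * e) = (d * e * d * e) * (d * e * d * e) by simp [pow_succ, mul_assoc]]
      conv_lhs => arg 1; rw [hcomm]
      rw [show e * (d * e * d) * (d * e * d * e) = e * ((d * e * d) * (d * e * d)) * e by group, hsq',
        mul_one, R.ee]
    rw [R.de, one_mul] at h2
    exact hde (by rw [← inv_of_sq R.ee]; exact eq_inv_of_mul_eq_one_left h2)
  have hne2 : e2 ≠ e1 := fun h => hne1 (by
    rw [he2d, he1d] at h
    rw [he1d]
    exact mul_left_cancel (a := w) (mul_right_cancel (b := w⁻¹) h))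
  have hne3 : e2 ≠ e := by
    intro h
    apply hne1
    rw [he1d]
    conv_lhs => rw [← h, he2d, he1d]
    rw [show w * (w * (w * e * w⁻¹) * w⁻¹) * w⁻¹ = w ^ 3 * e * (w ^ 3)⁻¹ by simp [pow_succ, mul_assoc], hw3]
    group
  have n1 : e1 ≠ 1 := fun h => he1 (conj_eq_one_iff.1 (he1d ▸ h))
  have n2 : e2 ≠ 1 := fun h => n1 (conj_eq_one_iff.1 (he2d ▸ h))
  have c1 := hC e1 (he1d ▸ hsq R.ee) (he1d ▸ p2.eq) (he1d ▸ p3.eq) (he1d ▸ p4.eq) (he1d ▸ p5.eq)
  have c2 : e2 = 1 ∨ e2 = e ∨ e2 = u ∨ e2 = e * u := by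
    rw [he2d, he1d]
    exact hC _ (hsq (hsq R.ee)) q2.eq q3.eq q4.eq q5.eq
  have key : e1 * e2 * e = 1 := by
    rcases c1 with r | r | r | r
    · exact absurd r n1
    · exact absurd r hne1
    all_goals
      rcases c2 with r' | r' | r' | r'
      · exact absurd r' n2
      · exact absurd r' hne3
      all_goals
        first
          | exact absurd (r'.trans r.symm) hne2
          | (rw [r, r', ← mul_assoc u e u, ← heu, mul_assoc e u u, huu, mul_one, R.ee])
          | (rw [r, r', mul_assoc e u u, huu, mul_one, R.ee])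
  calc (w * e) ^ 3 = (w * e * w⁻¹) * (w * (w * e * w⁻¹) * w⁻¹) * (w ^ 3 * e) := by
        simp [pow_succ, mul_assoc]
    _ = e1 * e2 * e := by rw [hw3, one_mul, he2d, he1d]
    _ = 1 := key

end CfsgLib.SuzRecognition
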