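import Mathlib

/-!
# The locally verifiable relations of the seven generators of the Suzuki sporadic group

These are the relators of `Cfsg.Spor.Suz` except the last one, together with the redundant
relation `(a b c g) ^ 5 = 1`.
-/

set_option autoImplicit false

namespace CfsgLib.SuzRecognition

/-- The relations between the candidates for the seven generators which hold inside the local
subgroups. -/
structure Rels {G : Type*} [Group G] (a b c d e f g : G) : Prop where
  aa : a * a = 1
  bb : b * b = 1
  cc : c * c = 1
  dd : d * d = 1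
  ee : e * e = 1
  ff : f * f = 1
  gg : g * g = 1
  ab : (a * b) ^ 5 = 1
  bc : (b * c) ^ 3 = 1
  cd : (c * d) ^ 8 = 1
  de : (d * e) ^ 3 = 1
  bf : (b * f) ^ 3 = 1
  fg : (f * g) ^ 4 = 1
  bg : (b * g) ^ 3 = 1
  ac : a * c = c * a
  ad : a * d = d * a
  ae : a * e = e * a
  af : a * f = f * a
  ag : a * g = g * a
  bd : b * d = d * b
  be : b * e = e * b
  ce : c * e = e * c
  cf : c * f = f * c
  cg : c * g = g * c
  df : d * f = f * d
  dg : d * g = g * d
  ef : e * f = f * e
  eg : e * g = g * e
  a_cd : a = (c * d) ^ 4
  a_fg : a = (f * g) ^ 2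
  abcf : (a * b * c * f) ^ 5 = 1
  abcg : (a * b * c * g) ^ 5 = 1
  bfg : (b * f * g) ^ 5 = 1

/-- The word whose product with `e` occurs in the last relator. -/
def sevenWord {G : Type*} [Group G] (b c d : G) : G := (b * c * d * c * d) ^ 5

end CfsgLib.SuzRecognition
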