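import Cfsg.Prelude.Def_Spor_Suz
import Cfsg.Agent.SuzRecognition.Defs
import Cfsg.Agent.CosetEnum.SuzOrder.Order
import Cfsg.Agent.CosetEnum.SuzSimple.Final

/-!
A group of the order of the Suzuki group with the seven relations is the presented group.
-/

set_option autoImplicit false
set_option linter.style.haveILetI false

namespace CfsgLib.SuzRecognition

variable {G : Type*} [Group G] {a b c d e f g : G}

theorem pow_swap {x y : G} {k : ℕ} (h : (x * y) ^ k = 1) : (y * x) ^ k = 1 := by
  rw [show y * x = x⁻¹ * (x * y) * (x⁻¹)⁻¹ by group, conj_pow, h, mul_one, mul_inv_cancel]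

theorem sq_of_comm {x y : G} (h : x * y = y * x) (hx : x * x = 1) (hy : y * y = 1) :
    (x * y) ^ 2 = 1 := by
  rw [pow_two]
  calc x * y * (x * y) = x * (y * x) * y := by group
    _ = x * (x * y) * y := by rw [h]
    _ = (x * x) * (y * y) := by group
    _ = 1 := by rw [hx, hy, mul_one]

/-- The generators as images of the seven letters. -/
def genVal (a b c d e f g : G) : Cfsg.Spor.Suz.Gen → G
  | .a => a
  | .b => b
  | .c => c
  | .d => d
  | .e => e
  | .f => f
  | .g => g

theorem lift_rel (R : Rels a b c d e f g) (h7 : (sevenWord b c d * e) ^ 3 = 1) :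
    ∀ r ∈ Cfsg.Spor.coxRelators Cfsg.Spor.Suz.edges ∪ {r | r ∈ Cfsg.Spor.Suz.extra},
      FreeGroup.lift (genVal a b c d e f g) r = 1 := by
  have one : ∀ {x : G}, x * x = 1 → (x * x) ^ 1 = 1 := fun h => by rw [pow_one, h]
  rintro r (⟨x, -, y, -, rfl⟩ | hr)
  · rw [map_pow, map_mul, FreeGroup.lift_apply_of, FreeGroup.lift_apply_of]
    cases x <;> cases y <;>
      simp only [genVal, Cfsg.Spor.coxLabel, Cfsg.Spor.Suz.edges, reduceCtorEq, if_true, if_false,
        List.find?, and_true, and_false, or_false, or_true, decide_true, decide_false] <;>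
      first
        | exact one R.aa | exact one R.bb | exact one R.cc | exact one R.dd | exact one R.ee
        | exact one R.ff | exact one R.gg
        | exact R.ab | exact pow_swap R.ab | exact R.bc | exact pow_swap R.bc
        | exact R.cd | exact pow_swap R.cd | exact R.de | exact pow_swap R.de
        | exact R.bf | exact pow_swap R.bf | exact R.fg | exact pow_swap R.fg
        | exact R.bg | exact pow_swap R.bg
        | exact sq_of_comm R.ac R.aa R.cc | exact sq_of_comm R.ac.symm R.cc R.aa
        | exact sq_of_comm R.ad R.aa R.dd | exact sq_of_comm R.ad.symm R.dd R.aa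
        | exact sq_of_comm R.ae R.aa R.ee | exact sq_of_comm R.ae.symm R.ee R.aa
        | exact sq_of_comm R.af R.aa R.ff | exact sq_of_comm R.af.symm R.ff R.aa
        | exact sq_of_comm R.ag R.aa R.gg | exact sq_of_comm R.ag.symm R.gg R.aa
        | exact sq_of_comm R.bd R.bb R.dd | exact sq_of_comm R.bd.symm R.dd R.bb
        | exact sq_of_comm R.be R.bb R.ee | exact sq_of_comm R.be.symm R.ee R.bb
        | exact sq_of_comm R.ce R.cc R.ee | exact sq_of_comm R.ce.symm R.ee R.cc
        | exact sq_of_comm R.cf R.cc R.ff | exact sq_of_comm R.cf.symm R.ff R.cc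
        | exact sq_of_comm R.cg R.cc R.gg | exact sq_of_comm R.cg.symm R.gg R.cc
        | exact sq_of_comm R.df R.dd R.ff | exact sq_of_comm R.df.symm R.ff R.dd
        | exact sq_of_comm R.dg R.dd R.gg | exact sq_of_comm R.dg.symm R.gg R.dd
        | exact sq_of_comm R.ef R.ee R.ff | exact sq_of_comm R.ef.symm R.ff R.ee
        | exact sq_of_comm R.eg R.ee R.gg | exact sq_of_comm R.eg.symm R.gg R.ee
  · simp only [Cfsg.Spor.Suz.extra, Set.mem_ofPred_eq, List.mem_cons, List.not_mem_nil, or_false] at hr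
    rcases hr with rfl | rfl | rfl | rfl | rfl <;>
      simp only [map_mul, map_inv, map_pow, Cfsg.Spor.Suz.a, Cfsg.Spor.Suz.b, Cfsg.Spor.Suz.c,
        Cfsg.Spor.Suz.d, Cfsg.Spor.Suz.e, Cfsg.Spor.Suz.f, Cfsg.Spor.Suz.g,
        FreeGroup.lift_apply_of, genVal]
    · exact mul_inv_eq_one.2 R.a_cd
    · exact mul_inv_eq_one.2 R.a_fg
    · exact R.abcf
    · exact R.bfg
    · exact h7

/-- The seven relations and the order give the Suzuki group. -/
theorem isoSuz_of_rels [Finite G] (R : Rels a b c d e f g) (h7 : (sevenWord b c d * e) ^ 3 = 1)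
    (ha : a ≠ 1) (hcard : Nat.card G = 448345497600) : Cfsg.Spor.IsoSuz G := by
  haveI := CfsgLib.CosetEnum.Suz.isSimpleGroup_Suz
  haveI : Finite Cfsg.Spor.Suz := Nat.finite_of_card_ne_zero (by rw [CfsgLib.CosetEnum.Suz.card_Suz]; norm_num)
  let Φ : Cfsg.Spor.Suz →* G := PresentedGroup.toGroup (lift_rel R h7)
  have hinj : Function.Injective Φ := by
    rw [← MonoidHom.ker_eq_bot_iff]
    rcases (MonoidHom.normal_ker Φ).eq_bot_or_eq_top with h | h
    · exact h
    · refine absurd ?_ ha
      have hm : (PresentedGroup.of Cfsg.Spor.Suz.Gen.a : Cfsg.Spor.Suz) ∈ Φ.ker := h ▸ Subgroup.mem_top _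
      rw [MonoidHom.mem_ker] at hm
      simpa [Φ, genVal] using hm
  have hbij : Function.Bijective Φ :=
    hinj.bijective_of_nat_card_le (by rw [hcard, CfsgLib.CosetEnum.Suz.card_Suz])
  exact ⟨(MulEquiv.ofBijective Φ hbij).symm⟩

end CfsgLib.SuzRecognition
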