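import Cfsg.Agent.SuzRecognition.ModelBase

/-!
Normalisation in `PSL(3,4)` of the data of the generator lemma.
-/

set_option autoImplicit false
set_option maxRecDepth 100000

namespace CfsgLib.SuzRecognition

open Matrix CfsgLib.Linear CfsgLib.PSLThreeFour
open Cfsg.Agent.S3157 (Uni)

theorem gf4_add_self (a : GF4) : a + a = 0 := gf4_facts.2.1 a

theorem eq_of_add_eq_zero {a b : GF4} (h : a + b = 0) : a = b := by
  have := congrArg (fun t => t + b) h
  simpa [add_assoc, gf4_add_self] using this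

theorem fe_zero : fe 0 = 0 := rfl

theorem fe_one : fe 1 = 1 := rfl

theorem uni_one_c : (1 : Uni).c = 0 := rfl

theorem commute_sq {L : Type*} [Group L] {f g z : L} (hz : (f * g) ^ 2 = z) (hz2 : z * z = 1)
    (hf : f * f = 1) (hg : g * g = 1) : f * z = z * f ∧ g * z = z * g := by
  have hfi := inv_eq_of_mul_eq_one_right hf
  have hgi := inv_eq_of_mul_eq_one_right hg
  have hzi : z⁻¹ = z := inv_eq_of_mul_eq_one_right hz2
  have e1 : z⁻¹ = g * f * g * f := by
    rw [← hz, pow_two, _root_.mul_inv_rev, _root_.mul_inv_rev, hfi, hgi]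
    simp only [mul_assoc]
  have e2 : z = f * g * f * g := by rw [← hz, pow_two]; simp only [mul_assoc]
  constructor
  · conv_rhs => rw [← hzi, e1]
    rw [e2, mul_assoc (g * f * g) f f, hf, mul_one]
    simp only [← mul_assoc, hf, one_mul]
  · conv_lhs => rw [← hzi, e1]
    rw [e2]
    simp only [mul_assoc, hg, mul_one]
    simp only [← mul_assoc, hg, one_mul]

/-- An element commuting with the central involution of the Sylow subgroup lies in it. -/
theorem exists_uni_of_commute {g : L34} (h : g * Uni.toPSL ⟨0, 0, 1⟩ = Uni.toPSL ⟨0, 0, 1⟩ * g) :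
    ∃ x : Uni, Uni.toPSL x = g := by
  obtain ⟨G, rfl⟩ := proj_surjective g
  rw [toPSL_eq, ← map_mul, ← map_mul] at h
  obtain ⟨r, hr⟩ := exists_scalar h
  change G.1 * !![1, 0, 1; 0, 1, 0; 0, 0, 1] =
    r • ((!![1, 0, 1; 0, 1, 0; 0, 0, 1] : Matrix (Fin 3) (Fin 3) GF4) * G.1) at hr
  have e := fun i j => congrFun (congrFun hr i) j
  have e10 := e 1 0
  have e11 := e 1 1
  have e20 := e 2 0
  have e21 := e 2 1
  have e01 := e 0 1
  have e02 := e 0 2
  have e12 := e 1 2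
  simp [Matrix.mul_apply, Matrix.vecMul, dotProduct, Fin.sum_univ_three] at e10 e11 e20 e21 e01 e02 e12
  have hdet := G.2
  rw [Matrix.det_fin_three] at hdet
  have hr1 : r = 1 := by
    by_contra hne
    have z : ∀ {t : GF4}, t = r * t → t = 0 := fun {t} ht => by
      by_contra h0
      exact hne ((mul_eq_right₀ h0).1 ht.symm)
    rw [z e10, z e11, z e20, z e21] at hdet
    simp at hdet
  subst hr1
  rw [one_mul] at e01 e02 e12
  have h10 : G.1 1 0 = 0 := by
    have := e12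
    linear_combination (norm := ring_nf) this
  have h21 : G.1 2 1 = 0 := by linear_combination (norm := ring_nf) -e01
  have h00 : G.1 0 0 = G.1 2 2 := by linear_combination (norm := ring_nf) e02
  have h20 : G.1 2 0 = 0 := by
    have e00 := e 0 0
    simp [Matrix.mul_apply, Matrix.vecMul, dotProduct, Fin.sum_univ_three] at e00
    exact e00
  set p := G.1 0 0 with hp
  rw [h10, h21, h20, ← h00] at hdet
  simp only [mul_zero, zero_mul, sub_zero, add_zero] at hdet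
  have hp0 : p ≠ 0 := fun h0 => by rw [h0] at hdet; simp at hdet
  have hq : G.1 1 1 = p := by
    have h3 := gf4_facts.1 p hp0
    calc G.1 1 1 = (p * p * p) * G.1 1 1 := by rw [h3, one_mul]
      _ = p * (p * G.1 1 1 * p) := by ring
      _ = p := by rw [hdet, mul_one]
  refine ⟨⟨p⁻¹ * G.1 0 1, p⁻¹ * G.1 1 2, p⁻¹ * G.1 0 2⟩, ?_⟩
  rw [toPSL_eq]
  refine (proj_eq_of_smul (r := p) ?_).symm
  rw [uni_val]
  refine Matrix.ext fun i j => ?_
  fin_cases i <;> fin_cases j <;> simp [h10, h21, h20, ← h00, hq, hp0, ← hp]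

theorem exists_sylow_conj (z : L34) (hz : z * z = 1) :
    ∃ (h : L34) (x : Uni), h * z * h⁻¹ = Uni.toPSL x := by
  haveI : Fact (Nat.Prime 2) := ⟨Nat.prime_two⟩
  have hP : IsPGroup 2 (Subgroup.zpowers z) := by
    have h2 : z ^ 2 = 1 := by rw [pow_two, hz]
    rintro ⟨y, k, rfl⟩
    refine ⟨1, Subtype.ext ?_⟩
    show (z ^ k) ^ 2 ^ 1 = 1
    rw [pow_one, ← zpow_natCast, ← _root_.zpow_mul, mul_comm, _root_.zpow_mul, zpow_natCast, h2,
      _root_.one_zpow]
  obtain ⟨P, hzP⟩ := hP.exists_le_sylow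
  obtain ⟨S, -⟩ := Uni.exists_sylow
  have hcard : Nat.card sylow0 = 2 ^ (Nat.card L34).factorization 2 := by
    obtain ⟨S, ⟨e⟩⟩ := Uni.exists_sylow
    rw [← S.card_eq_multiplicity, ← Nat.card_congr e.toEquiv]
    exact (Nat.card_congr (MonoidHom.ofInjective Uni.toPSL_injective).toEquiv).symm
  obtain ⟨h, hh⟩ := MulAction.exists_smul_eq L34 P (Sylow.ofCard sylow0 hcard)
  have hm : h * z * h⁻¹ ∈ sylow0 := by
    have e : ((h • P : Sylow 2 L34) : Subgroup L34) = sylow0 := by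
      rw [hh]; rfl
    rw [← e, Sylow.coe_subgroup_smul]
    exact ⟨z, hzP (Subgroup.mem_zpowers z), rfl⟩
  obtain ⟨x, hx⟩ := hm
  exact ⟨h, x, hx.symm⟩

/-- Involutions are conjugate to the central one by automorphisms. -/
theorem exists_aut_center {z : L34} (hz : z * z = 1) (hz1 : z ≠ 1) :
    ∃ φ : L34 ≃* L34, φ z = Uni.toPSL ⟨0, 0, 1⟩ := by
  obtain ⟨h, x, hx⟩ := exists_sylow_conj z hz
  have hxx : x * x = 1 := Uni.toPSL_injective (by
    rw [map_mul, ← hx, map_one, show h * z * h⁻¹ * (h * z * h⁻¹) = h * (z * z) * h⁻¹ by group, hz]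
    group)
  have hx1 : x ≠ 1 := fun he => hz1 (by
    rw [he, map_one, mul_inv_eq_one, mul_eq_left] at hx
    exact hx)
  have hab : x.a * x.b = 0 := by
    have := congrArg Uni.c hxx
    rw [uni_mul] at this
    simpa [gf4_add_self, uni_one_c] using (this : x.c + x.c + x.a * x.b = 0)
  obtain ⟨ψ, a, c, hψ, hac⟩ : ∃ (ψ : L34 ≃* L34) (a c : GF4),
      ψ (Uni.toPSL x) = Uni.toPSL ⟨a, 0, c⟩ ∧ (a, c) ≠ (0 : GF4 × GF4) := by
    rcases mul_eq_zero.1 hab with ha | hb
    · refine ⟨dualPSL, x.b, x.c, ?_, fun he => hx1 ?_⟩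
      · rw [dualPSL_uni]; simp [ha]
      · simp [Prod.ext_iff] at he
        exact Uni.ext' ha he.1 he.2
    · refine ⟨MulEquiv.refl _, x.a, x.c, ?_, fun he => hx1 ?_⟩
      · rw [MulEquiv.refl_apply]; congr 1; exact Uni.ext' rfl hb rfl
      · simp [Prod.ext_iff] at he
        exact Uni.ext' he.1 hb he.2
  obtain ⟨M, hM⟩ := exists_levi_conj (a, c) hac
  obtain ⟨M', hM'⟩ := exists_levi_conj ((0, 1) : GF4 × GF4) (by simp)
  refine ⟨((MulAut.conj h).trans ψ).trans (MulAut.conj (leviP M' * (leviP M)⁻¹)), ?_⟩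
  show MulAut.conj _ (ψ (MulAut.conj h z)) = _
  rw [MulAut.conj_apply h, hx, hψ, ← hM, MulAut.conj_apply, ← hM']
  group

/-- The diagonal matrix `diag(1, a, 1)`. -/
def dM (a : GF4) : Matrix (Fin 3) (Fin 3) GF4 := !![1, 0, 0; 0, a, 0; 0, 0, 1]

theorem dM_mul (a b : GF4) : dM a * dM b = dM (a * b) := by
  refine Matrix.ext fun i j => ?_
  fin_cases i <;> fin_cases j <;> simp [dM, Matrix.mul_apply, Fin.sum_univ_three]

theorem dM_one : dM 1 = 1 := by
  refine Matrix.ext fun i j => ?_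
  fin_cases i <;> fin_cases j <;> simp [dM]

/-- Conjugation by a diagonal matrix. -/
def dConj (a b : GF4) (hab : a * b = 1) (X : SL34) : SL34 :=
  ⟨dM a * X.1 * dM b, by
    rw [det_mul, det_mul, X.2, mul_one, ← det_mul, dM_mul, hab, dM_one, det_one]⟩

theorem dConj_dConj {a b : GF4} (hab : a * b = 1) (hba : b * a = 1) (X : SL34) :
    dConj b a hba (dConj a b hab X) = X := by
  apply Subtype.ext
  show dM b * (dM a * X.1 * dM b) * dM a = X.1
  rw [← Matrix.mul_assoc, ← Matrix.mul_assoc, dM_mul, hba, dM_one, Matrix.one_mul, Matrix.mul_assoc,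
    dM_mul, hba, dM_one, Matrix.mul_one]

/-- The automorphism of a diagonal matrix. -/
noncomputable def dAut (a b : GF4) (hab : a * b = 1) : SL34 ≃* SL34 where
  toFun := dConj a b hab
  invFun := dConj b a (by rw [mul_comm]; exact hab)
  left_inv := dConj_dConj hab _
  right_inv := dConj_dConj _ hab
  map_mul' X Y := by
    apply Subtype.ext
    show dM a * (X.1 * Y.1) * dM b = (dM a * X.1 * dM b) * (dM a * Y.1 * dM b)
    simp only [Matrix.mul_assoc]
    rw [← Matrix.mul_assoc (dM b) (dM a), dM_mul, mul_comm b a, hab, dM_one, Matrix.one_mul]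

theorem dAut_uni {a b : GF4} (hab : a * b = 1) (x : Uni) :
    pslCongr (dAut a b hab) (Uni.toPSL x) = Uni.toPSL ⟨x.a * b, a * x.b, x.c⟩ := by
  rw [toPSL_eq, toPSL_eq]
  show proj (dConj a b hab (Uni.toSL x)) = _
  refine congrArg proj (Subtype.ext ?_)
  show dM a * (Uni.toSL x).1 * dM b = _
  rw [uni_val, uni_val]
  refine Matrix.ext fun i j => ?_
  fin_cases i <;> fin_cases j <;> simp [dM, Matrix.mul_apply, Fin.sum_univ_three, hab]

/-- The normal form of `f`, `g`, `c`. -/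
theorem exists_aut_triple {f g c : L34} {r1 r2 : L34}
    (h : ModelHyp (Uni.toPSL ⟨0, 0, 1⟩) f g c r1 r2) :
    (∃ (φ : L34 ≃* L34) (t : GF4), φ (Uni.toPSL ⟨0, 0, 1⟩) = Uni.toPSL ⟨0, 0, 1⟩ ∧
      φ f = Uni.toPSL ⟨1, 0, 0⟩ ∧ φ g = Uni.toPSL ⟨0, 1, 0⟩ ∧ φ c = Uni.toPSL ⟨0, 0, t⟩ ∧
      t ≠ 0 ∧ t ≠ 1) ∨
    (∃ (φ : L34 ≃* L34) (t : GF4), φ (Uni.toPSL ⟨0, 0, 1⟩) = Uni.toPSL ⟨0, 0, 1⟩ ∧
      φ g = Uni.toPSL ⟨1, 0, 0⟩ ∧ φ f = Uni.toPSL ⟨0, 1, 0⟩ ∧ φ c = Uni.toPSL ⟨0, 0, t⟩ ∧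
      t ≠ 0 ∧ t ≠ 1) := by
  -- it suffices to treat the case in which `f` is in the first plane
  suffices key : ∀ {f g r1 r2 : L34}, ModelHyp (Uni.toPSL ⟨0, 0, 1⟩) f g c r1 r2 →
      (∃ x : Uni, x.b = 0 ∧ Uni.toPSL x = f) →
      ∃ (φ : L34 ≃* L34) (t : GF4), φ (Uni.toPSL ⟨0, 0, 1⟩) = Uni.toPSL ⟨0, 0, 1⟩ ∧
        φ f = Uni.toPSL ⟨1, 0, 0⟩ ∧ φ g = Uni.toPSL ⟨0, 1, 0⟩ ∧ φ c = Uni.toPSL ⟨0, 0, t⟩ ∧
        t ≠ 0 ∧ t ≠ 1 by
    obtain ⟨hfz, hgz⟩ := commute_sq h.hz h.hz2 h.hf h.hg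
    obtain ⟨x, hx⟩ := exists_uni_of_commute hfz
    by_cases hb : x.b = 0
    · exact Or.inl (key h ⟨x, hb, hx⟩)
    · refine Or.inr (key h.swap ?_)
      obtain ⟨y, hy⟩ := exists_uni_of_commute hgz
      refine ⟨y, ?_, hy⟩
      have hxx : x * x = 1 := Uni.toPSL_injective (by rw [map_mul, hx, h.hf, map_one])
      have hyy : y * y = 1 := Uni.toPSL_injective (by rw [map_mul, hy, h.hg, map_one])
      have e : (x * y) * (x * y) = ⟨0, 0, 1⟩ := Uni.toPSL_injective (by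
        rw [map_mul, map_mul, hx, hy, ← pow_two, h.hz])
      have h1 : x.a * x.b = 0 := by
        have := congrArg Uni.c hxx
        rw [uni_mul] at this
        simpa [gf4_add_self, uni_one_c] using (this : x.c + x.c + x.a * x.b = 0)
      have h2 : y.a * y.b = 0 := by
        have := congrArg Uni.c hyy
        rw [uni_mul] at this
        simpa [gf4_add_self, uni_one_c] using (this : y.c + y.c + y.a * y.b = 0)
      have h3 := congrArg Uni.c e
      simp only [uni_mul] at h3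
      have hxa : x.a = 0 := (mul_eq_zero.1 h1).resolve_right hb
      rcases mul_eq_zero.1 h2 with hya | hyb
      · exfalso
        simp [hxa, hya, gf4_add_self] at h3
      · exact hyb
  intro f g r1 r2 h ⟨x, hb, hx⟩
  obtain ⟨hfz, hgz⟩ := commute_sq h.hz h.hz2 h.hf h.hg
  obtain ⟨y, hy⟩ := exists_uni_of_commute hgz
  have hcz : c * Uni.toPSL ⟨0, 0, 1⟩ = Uni.toPSL ⟨0, 0, 1⟩ * c := by
    rw [← h.hz]
    exact ((show Commute c f from h.hcf).mul_right (show Commute c g from h.hcg)).pow_right 2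
  obtain ⟨u, hu⟩ := exists_uni_of_commute hcz
  have h2 : y.a * y.b = 0 := by
    have hyy : y * y = 1 := Uni.toPSL_injective (by rw [map_mul, hy, h.hg, map_one])
    have := congrArg Uni.c hyy
    rw [uni_mul] at this
    simpa [gf4_add_self, uni_one_c] using (this : y.c + y.c + y.a * y.b = 0)
  have e : (x * y) * (x * y) = ⟨0, 0, 1⟩ := Uni.toPSL_injective (by
    rw [map_mul, map_mul, hx, hy, ← pow_two, h.hz])
  have h3 := congrArg Uni.c e
  simp only [uni_mul] at h3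
  have hya : y.a = 0 := by
    rcases mul_eq_zero.1 h2 with h4 | h4
    · exact h4
    · exfalso; simp [hb, h4, gf4_add_self] at h3
  have hprod : x.a * y.b = 1 := by
    simp only [hb, hya, add_zero, zero_add] at h3
    linear_combination (norm := ring_nf) h3 - gf4_add_self (x.c + y.c + x.a * y.b)
  have ha0 : x.a ≠ 0 := fun h0 => by rw [h0, zero_mul] at hprod; exact zero_ne_one hprod
  have hb0 : y.b ≠ 0 := fun h0 => by rw [h0, mul_zero] at hprod; exact zero_ne_one hprod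
  have hcx : u * x = x * u := Uni.toPSL_injective (by rw [map_mul, map_mul, hu, hx, h.hcf])
  have hcy : u * y = y * u := Uni.toPSL_injective (by rw [map_mul, map_mul, hu, hy, h.hcg])
  have hua : u.a = 0 := by
    have := congrArg Uni.c hcy
    simp only [uni_mul, hya, zero_mul, add_zero] at this
    have h4 : u.a * y.b = 0 := by linear_combination (norm := ring_nf) this
    exact (mul_eq_zero.1 h4).resolve_right hb0
  have hub : u.b = 0 := by
    have := congrArg Uni.c hcx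
    simp only [uni_mul, hb, hua, zero_mul, add_zero] at this
    have h4 : x.a * u.b = 0 := by linear_combination (norm := ring_nf) -this
    exact (mul_eq_zero.1 h4).resolve_left ha0
  let φ : L34 ≃* L34 := (pslCongr (dAut x.a y.b hprod)).trans (MulAut.conj (Uni.toPSL ⟨y.c, x.c, 0⟩))
  have hφ : ∀ (v w : Uni),
      (⟨y.c, x.c, 0⟩ : Uni) * (⟨v.a * y.b, x.a * v.b, v.c⟩ : Uni) = w * ⟨y.c, x.c, 0⟩ →
      φ (Uni.toPSL v) = Uni.toPSL w := by
    intro v w he
    simp only [φ, MulEquiv.trans_apply]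
    rw [dAut_uni, MulAut.conj_apply, ← map_mul, he, map_mul, mul_inv_cancel_right]
  refine ⟨φ, u.c, hφ _ _ ?_, ?_, ?_, ?_, ?_, ?_⟩
  · ext1 <;> simp [uni_mul, add_comm]
  · rw [← hx]
    refine hφ _ _ ?_
    ext1 <;> simp [uni_mul, hb, hprod, add_comm]
  · rw [← hy]
    refine hφ _ _ ?_
    ext1 <;> simp [uni_mul, hya, hprod, add_comm]
    linear_combination (norm := ring_nf) gf4_add_self y.c
  · rw [← hu]
    refine hφ _ _ ?_
    ext1 <;> simp [uni_mul, hua, hub, add_comm]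
  · intro h0
    refine h.hcD ?_
    rw [← hu, show u = 1 from Uni.ext' hua hub h0, map_one]
    exact one_mem _
  · intro h0
    refine h.hcD ?_
    rw [← hu, show u = ⟨0, 0, 1⟩ from Uni.ext' hua hub h0, ← h.hz]
    exact pow_mem (mul_mem (Subgroup.subset_closure (by simp)) (Subgroup.subset_closure (by simp))) 2

/-- The elements carrying `z, f` to `f, z f`. -/
theorem rep_r1 {r : L34} (h1 : r * Uni.toPSL ⟨0, 0, 1⟩ * r⁻¹ = Uni.toPSL ⟨1, 0, 0⟩)
    (h2 : r * Uni.toPSL ⟨1, 0, 0⟩ * r⁻¹ = Uni.toPSL ⟨0, 0, 1⟩ * Uni.toPSL ⟨1, 0, 0⟩) :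
    ∃ i < 16, Rep r (r1C (i / 4) (i % 4)) := by
  obtain ⟨R, rfl⟩ := proj_surjective r
  have lin : ∀ (p q : Uni), proj R * Uni.toPSL p * (proj R)⁻¹ = Uni.toPSL q →
      R.1 * (Uni.toSL p).1 = (Uni.toSL q).1 * R.1 := by
    intro p q hpq
    rw [mul_inv_eq_iff_eq_mul, toPSL_eq, toPSL_eq, ← map_mul, ← map_mul] at hpq
    obtain ⟨s, hs⟩ := exists_scalar hpq
    rw [Matrix.SpecialLinearGroup.coe_mul, Matrix.SpecialLinearGroup.coe_mul] at hs
    have hs1 : s = 1 := by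
      have h' := congrArg (fun M : Matrix (Fin 3) (Fin 3) GF4 => Matrix.trace ((R⁻¹ : SL34).1 * M)) hs
      simp only [Matrix.mul_smul, Matrix.trace_smul, ← Matrix.mul_assoc] at h'
      rw [← Matrix.SpecialLinearGroup.coe_mul R⁻¹ R, inv_mul_cancel, Matrix.SpecialLinearGroup.coe_one,
        Matrix.one_mul, Matrix.trace_mul_cycle, ← Matrix.SpecialLinearGroup.coe_mul R R⁻¹,
        mul_inv_cancel, Matrix.SpecialLinearGroup.coe_one, Matrix.one_mul, uni_val, uni_val] at h'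
      simp [Matrix.trace, Fin.sum_univ_three] at h'
      have h111 : (1 : GF4) + 1 + 1 = 1 := by rw [gf4_add_self, zero_add]
      rw [h111] at h'
      simpa using h'.symm
    rw [hs, hs1, one_smul]
  have e1 := lin _ _ h1
  rw [← map_mul] at h2
  have e2 := lin _ _ h2
  rw [uni_val, uni_val] at e1
  rw [uni_mul, uni_val, uni_val] at e2
  have a := fun i j => congrFun (congrFun e1 i) j
  have b := fun i j => congrFun (congrFun e2 i) j
  have a00 := a 0 0
  have a01 := a 0 1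
  have a02 := a 0 2
  have a12 := a 1 2
  have a22 := a 2 2
  have b01 := b 0 1
  have b02 := b 0 2
  simp [Matrix.mul_apply, Matrix.vecMul, dotProduct, Fin.sum_univ_three] at a00 a01 a02 a12 a22 b01 b02
  have hdet := R.2
  rw [Matrix.det_fin_three] at hdet
  have h10 : R.1 1 0 = 0 := a00
  have h11 : R.1 1 1 = 0 := a01
  have h20 : R.1 2 0 = 0 := a22
  have h12 : R.1 1 2 = R.1 0 0 := by linear_combination (norm := ring_nf) -a02
  have h21 : R.1 2 1 = R.1 0 0 := by linear_combination (norm := ring_nf) -b01 - h11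
  have h22 : R.1 2 2 = R.1 0 0 := by
    linear_combination (norm := ring_nf) -b02 - h12 + gf4_add_self (R.1 0 0) * (-1)
  set p := R.1 0 0 with hp
  have hp0 : p ≠ 0 := fun h0 => by
    rw [h10, h11, h20, h12, h0] at hdet
    simp at hdet
  obtain ⟨x, hx⟩ : ∃ x : Fin 4, fe x = p⁻¹ * R.1 0 1 := by
    generalize p⁻¹ * R.1 0 1 = t; revert t; decide +kernel
  obtain ⟨y, hy⟩ : ∃ y : Fin 4, fe y = p⁻¹ * R.1 0 2 := by
    generalize p⁻¹ * R.1 0 2 = t; revert t; decide +kernel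
  refine ⟨4 * x.val + y.val, by omega, ?_, R, rfl, p, hp0, ?_⟩
  · refine ok_of_all ?_
    rw [show (4 * x.val + y.val) / 4 = x.val by omega, show (4 * x.val + y.val) % 4 = y.val by omega]
    clear hx hy; revert x y; decide +kernel
  rw [show (4 * x.val + y.val) / 4 = x.val by omega, show (4 * x.val + y.val) % 4 = y.val by omega]
  refine Matrix.ext fun i j => ?_
  fin_cases i <;> fin_cases j <;>
    simp [toM, r1C, fe_zero, fe_one, hx, hy, h10, h11, h20, h12, h21, h22, hp0, ← hp]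

/-- The elements carrying `z, g` to `g, z g`. -/
theorem rep_r2 {r : L34} (h1 : r * Uni.toPSL ⟨0, 0, 1⟩ * r⁻¹ = Uni.toPSL ⟨0, 1, 0⟩)
    (h2 : r * Uni.toPSL ⟨0, 1, 0⟩ * r⁻¹ = Uni.toPSL ⟨0, 0, 1⟩ * Uni.toPSL ⟨0, 1, 0⟩) :
    ∃ j < 16, Rep r (r2C (j / 4) (j % 4)) := by
  obtain ⟨R, rfl⟩ := proj_surjective r
  have lin : ∀ (p q : Uni), proj R * Uni.toPSL p * (proj R)⁻¹ = Uni.toPSL q →
      R.1 * (Uni.toSL p).1 = (Uni.toSL q).1 * R.1 := by
    intro p q hpq
    rw [mul_inv_eq_iff_eq_mul, toPSL_eq, toPSL_eq, ← map_mul, ← map_mul] at hpq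
    obtain ⟨s, hs⟩ := exists_scalar hpq
    rw [Matrix.SpecialLinearGroup.coe_mul, Matrix.SpecialLinearGroup.coe_mul] at hs
    have hs1 : s = 1 := by
      have h' := congrArg (fun M : Matrix (Fin 3) (Fin 3) GF4 => Matrix.trace ((R⁻¹ : SL34).1 * M)) hs
      simp only [Matrix.mul_smul, Matrix.trace_smul, ← Matrix.mul_assoc] at h'
      rw [← Matrix.SpecialLinearGroup.coe_mul R⁻¹ R, inv_mul_cancel, Matrix.SpecialLinearGroup.coe_one,
        Matrix.one_mul, Matrix.trace_mul_cycle, ← Matrix.SpecialLinearGroup.coe_mul R R⁻¹,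
        mul_inv_cancel, Matrix.SpecialLinearGroup.coe_one, Matrix.one_mul, uni_val, uni_val] at h'
      simp [Matrix.trace, Fin.sum_univ_three] at h'
      have h111 : (1 : GF4) + 1 + 1 = 1 := by rw [gf4_add_self, zero_add]
      rw [h111] at h'
      simpa using h'.symm
    rw [hs, hs1, one_smul]
  have e1 := lin _ _ h1
  rw [← map_mul] at h2
  have e2 := lin _ _ h2
  rw [uni_val, uni_val] at e1
  rw [uni_mul, uni_val, uni_val] at e2
  have a := fun i j => congrFun (congrFun e1 i) j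
  have b := fun i j => congrFun (congrFun e2 i) j
  have a02 := a 0 2
  have a11 := a 1 1
  have a12 := a 1 2
  have a22 := a 2 2
  have b02 := b 0 2
  have b12 := b 1 2
  simp [Matrix.mul_apply, Matrix.vecMul, dotProduct, Fin.sum_univ_three] at a02 a11 a12 a22 b02 b12
  have hdet := R.2
  rw [Matrix.det_fin_three] at hdet
  have h00 : R.1 0 0 = 0 := by linear_combination (norm := ring_nf) a02
  have h20 : R.1 2 0 = 0 := a22
  have h21 : R.1 2 1 = 0 := a11
  have h10 : R.1 1 0 = R.1 2 2 := by linear_combination (norm := ring_nf) a12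
  have h01 : R.1 0 1 = R.1 2 2 := by linear_combination (norm := ring_nf) b02
  have h11 : R.1 1 1 = R.1 2 2 := by linear_combination (norm := ring_nf) b12
  set p := R.1 2 2 with hp
  have hp0 : p ≠ 0 := fun h0 => by
    rw [h00, h20, h21, h10, h0] at hdet
    simp at hdet
  obtain ⟨x, hx⟩ : ∃ x : Fin 4, fe x = p⁻¹ * R.1 0 2 := by
    generalize p⁻¹ * R.1 0 2 = t; revert t; decide +kernel
  obtain ⟨y, hy⟩ : ∃ y : Fin 4, fe y = p⁻¹ * R.1 1 2 := by
    generalize p⁻¹ * R.1 1 2 = t; revert t; decide +kernel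
  refine ⟨4 * x.val + y.val, by omega, ?_, R, rfl, p, hp0, ?_⟩
  · refine ok_of_all ?_
    rw [show (4 * x.val + y.val) / 4 = x.val by omega, show (4 * x.val + y.val) % 4 = y.val by omega]
    clear hx hy; revert x y; decide +kernel
  rw [show (4 * x.val + y.val) / 4 = x.val by omega, show (4 * x.val + y.val) % 4 = y.val by omega]
  refine Matrix.ext fun i j => ?_
  fin_cases i <;> fin_cases j <;>
    simp [toM, r2C, fe_zero, fe_one, hx, hy, h00, h20, h21, h10, h01, h11, hp0, ← hp]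

theorem rep_uni (x : Uni) (A : Code) (h : A.d.all (fun a => Nat.blt a 4) = true)
    (e : toM A = !![1, x.a, x.c; 0, 1, x.b; 0, 0, 1]) : Rep (Uni.toPSL x) A :=
  ⟨ok_of_all h, Uni.toSL x, (toPSL_eq x).symm, 1, one_ne_zero, by rw [one_smul, e, uni_val]⟩

/-- The normalised lemma. -/
theorem concl_std {t : GF4} (ht0 : t ≠ 0) (ht1 : t ≠ 1) {r1 r2 : L34}
    (h : ModelHyp (Uni.toPSL ⟨0, 0, 1⟩) (Uni.toPSL ⟨1, 0, 0⟩) (Uni.toPSL ⟨0, 1, 0⟩)
      (Uni.toPSL ⟨0, 0, t⟩) r1 r2) :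
    ModelConcl (Uni.toPSL ⟨0, 0, 1⟩) (Uni.toPSL ⟨1, 0, 0⟩) (Uni.toPSL ⟨0, 1, 0⟩)
      (Uni.toPSL ⟨0, 0, t⟩) r1 r2 := by
  obtain ⟨i, hi, hr1⟩ := rep_r1 h.h1z h.h1f
  obtain ⟨j, hj, hr2⟩ := rep_r2 h.h2z h.h2g
  obtain ⟨n, hn, rfl⟩ : ∃ n : ℕ, (n = 2 ∨ n = 3) ∧ t = fe n := by
    revert ht1 ht0
    have : ∀ t : GF4, t = 0 ∨ t = 1 ∨ t = fe 2 ∨ t = fe 3 := by decide +kernel
    rcases this t with rfl | rfl | rfl | rfl <;> simp
  have hZ : Rep (Uni.toPSL ⟨0, 0, 1⟩) zC := rep_uni _ _ (by decide) (by decide +kernel)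
  have hF : Rep (Uni.toPSL ⟨1, 0, 0⟩) fC := rep_uni _ _ (by decide) (by decide +kernel)
  have hG : Rep (Uni.toPSL ⟨0, 1, 0⟩) gC := rep_uni _ _ (by decide) (by decide +kernel)
  have hC : Rep (Uni.toPSL ⟨0, 0, fe n⟩) (cC n) := by
    rcases hn with rfl | rfl <;> exact rep_uni _ _ (by decide) (by decide +kernel)
  have hok : caseOK n i j = true := by
    have hall := fun (hh : (List.range 16).all (fun i => (List.range 16).all fun j => caseOK n i j) = true) =>
      List.all_eq_true.1 (List.all_eq_true.1 hh i (List.mem_range.2 hi)) j (List.mem_range.2 hj)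
    rcases hn with rfl | rfl
    · exact hall all_cases_two
    · exact hall all_cases_three
  set f := Uni.toPSL ⟨1, 0, 0⟩
  set g := Uni.toPSL ⟨0, 1, 0⟩
  set z := Uni.toPSL ⟨0, 0, 1⟩
  set c := Uni.toPSL ⟨0, 0, fe n⟩
  have hrep : ∀ k, Rep ([f, g, r1, r2].getD k 1) ((gsC i j).getD k oneC) := fun k =>
    match k with
    | 0 => hF
    | 1 => hG
    | 2 => hr1
    | 3 => hr2
    | _ + 4 => Rep.one
  simp only [caseOK] at hok
  set e := ModelData.cases.getD (256 * (n - 2) + 16 * i + j) ([], 0)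
  have hb := rep_eval hrep e.1
  set b := evalW [f, g, r1, r2] e.1
  have hmem : b ∈ Subgroup.closure ({f, g, r1, r2} : Set L34) :=
    evalW_mem (fun x hx => Subgroup.subset_closure (by simpa using hx)) _
  have one' : ∀ {x : L34} {A : Code}, Rep x A → sameC A oneC = true → x = 1 :=
    fun hx hA => rep_unique hx Rep.one hA
  cases h0 : Nat.beq e.2 0 <;> rw [h0] at hok
  · simp only [cond_false, Bool.and_eq_true] at hok
    obtain ⟨⟨⟨⟨⟨⟨⟨⟨k1, k2⟩, k3⟩, k4⟩, k5⟩, k6⟩, k7⟩, k8⟩, k9⟩ := hok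
    refine Or.inr ⟨b, hmem, ?_, one' (rep_pow (hb.mul hC) 3) k2, one' (rep_pow (hb.mul hF) 3) k3,
      one' (rep_pow (hb.mul hG) 3) k4, one' (rep_pow (hZ.mul hb) 5) k5,
      one' (rep_pow (((hZ.mul hb).mul hC).mul hF) 5) k6,
      one' (rep_pow (((hZ.mul hb).mul hC).mul hG) 5) k7,
      one' (rep_pow ((hb.mul hF).mul hG) 5) k8, ?_⟩
    · have := one' (rep_pow hb 2) k1
      rwa [pow_two] at this
    · refine eq_top_of_genOK (xs := [b, c, f, g]) ?_ k9
        (fun x hx => Subgroup.subset_closure (by simpa using hx))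
      exact fun k => match k with
        | 0 => hb
        | 1 => hC
        | 2 => hF
        | 3 => hG
        | _ + 4 => Rep.one
  · simp only [cond_true, Bool.and_eq_true] at hok
    haveI : Fact (Nat.Prime 7) := ⟨by norm_num⟩
    exact Or.inl ⟨b, hmem, orderOf_eq_prime (one' (rep_pow hb 7) hok.1) (rep_one_ne hb hok.2)⟩

theorem concl_L34 {z f g c r1 r2 : L34} (h : ModelHyp z f g c r1 r2) :
    ModelConcl z f g c r1 r2 := by
  obtain ⟨φ, hφ⟩ := exists_aut_center h.hz2 h.hz1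
  refine concl_of_map φ ?_
  have h' := h.map φ
  rw [hφ] at h' ⊢
  rcases exists_aut_triple h' with ⟨ψ, t, e1, e2, e3, e4, ht0, ht1⟩ | ⟨ψ, t, e1, e2, e3, e4, ht0, ht1⟩
  · refine concl_of_map ψ ?_
    have h'' := h'.map ψ
    rw [e1, e2, e3, e4] at h'' ⊢
    exact concl_std ht0 ht1 h''
  · refine concl_swap h' (concl_of_map ψ ?_)
    have h'' := h'.swap.map ψ
    rw [e1, e2, e3, e4] at h'' ⊢
    exact concl_std ht0 ht1 h''

/-- The generator lemma in `PSL(3,4)`. -/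
theorem exists_generator_b {F : Type} [Field F] [Fintype F] (hF : Fintype.card F = 4) {L : Type*}
    [Group L] (E : L ≃* Matrix.ProjectiveSpecialLinearGroup (Fin 3) F) {z f g c r1 r2 : L}
    (hz : (f * g) ^ 2 = z) (hz1 : z ≠ 1) (hz2 : z * z = 1) (hf : f * f = 1) (hg : g * g = 1)
    (hc : c * c = 1) (hcf : c * f = f * c) (hcg : c * g = g * c)
    (hcD : c ∉ Subgroup.closure ({f, g} : Set L)) (h1 : r1 ^ 3 = 1) (h1z : r1 * z * r1⁻¹ = f)
    (h1f : r1 * f * r1⁻¹ = z * f) (h2 : r2 ^ 3 = 1) (h2z : r2 * z * r2⁻¹ = g)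
    (h2g : r2 * g * r2⁻¹ = z * g) :
    (∃ x ∈ Subgroup.closure ({f, g, r1, r2} : Set L), orderOf x = 7) ∨
      ∃ b ∈ Subgroup.closure ({f, g, r1, r2} : Set L), b * b = 1 ∧ (b * c) ^ 3 = 1 ∧ (b * f) ^ 3 = 1 ∧
        (b * g) ^ 3 = 1 ∧ (z * b) ^ 5 = 1 ∧ (z * b * c * f) ^ 5 = 1 ∧ (z * b * c * g) ^ 5 = 1 ∧
        (b * f * g) ^ 5 = 1 ∧ Subgroup.closure ({b, c, f, g} : Set L) = ⊤ := by
  have e : L ≃* L34 := E.trans (pslFieldCongr (hF.trans card_gf4.symm))
  exact concl_of_map e (concl_L34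
    (ModelHyp.map e ⟨hz, hz1, hz2, hf, hg, hc, hcf, hcg, hcD, h1z, h1f, h2z, h2g⟩))

end CfsgLib.SuzRecognition
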