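import Cfsg.Agent.SuzType.XGroup
import Mathlib.GroupTheory.Transfer

/-!
# The centralizer of the four group splits over it
-/

set_option autoImplicit false
set_option linter.style.haveILetI false
set_option linter.unusedSectionVars false

namespace CfsgLib.SuzRecognition

open CfsgLib.SuzType

/-- The coordinates of a class which are read off on the four group. -/
def vBits (A : V6) : Multiplicative (ZMod 2 × ZMod 2) :=
  Multiplicative.ofAdd (if A.bits.testBit 4 then 1 else 0, if A.bits.testBit 5 then 1 else 0)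

theorem vBits_add (A B : V6) : vBits (A + B) = vBits A * vBits B := by
  have key : ∀ b c : Bool, (if xor b c then (1 : ZMod 2) else 0) =
      (if b then 1 else 0) + (if c then 1 else 0) := by decide
  simp only [vBits, bits_add, Nat.testBit_xor, key]
  rfl

theorem vBits_four : ∀ p ∈ fourList, vBits p.1 = 1 → p = (0, 0) := by
  intro p hp h
  simp only [fourList, List.mem_cons, List.not_mem_nil, or_false] at hp
  rcases hp with rfl | rfl | rfl | rfl
  · rfl
  all_goals exact absurd h (by decide +kernel)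

theorem sq_vBits : ∀ m : Multiplicative (ZMod 2 × ZMod 2), m * m = 1 := by decide +kernel

variable {G : Type*} [Group G] [Finite G] {z s θ t : G} {Q P : Subgroup G} {π : G → V6}
  (T : Four z Q π P s θ t)
include T

/-- A homomorphism of the Sylow two subgroup onto the four group. -/
theorem exists_hom_T :
    ∃ φ : (Subgroup.centralizer ({z, s, t} : Set G)).subgroupOf (Kgrp θ t) →*
      Multiplicative (ZMod 2 × ZMod 2),
      ∀ x : (Subgroup.centralizer ({z, s, t} : Set G)).subgroupOf (Kgrp θ t),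
        MemV θ t ((x : Kgrp θ t) : G) → φ x = 1 → ((x : Kgrp θ t) : G) = 1 := by
  classical
  have hcl : ∀ x : (Subgroup.centralizer ({z, s, t} : Set G)).subgroupOf (Kgrp θ t),
      ∃ A U, T.frame.Cl ((x : Kgrp θ t) : G) A U := fun x => by
    obtain ⟨A, U, h, -⟩ := T.exists_cl_T (Subgroup.mem_subgroupOf.1 x.2)
    exact ⟨A, U, h⟩
  choose A U hAU using hcl
  refine ⟨MonoidHom.mk' (fun x => vBits (A x)) fun x y => ?_, fun x hv h1 => ?_⟩
  · show vBits (A (x * y)) = _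
    rw [((hAU (x * y)).unique ((hAU x).mul (hAU y))).1, vBits_add]
  · obtain ⟨p, hp, hpc⟩ := T.memV_classes hv
    have e := ((hAU x).unique hpc).1
    have h1' : vBits (A x) = 1 := h1
    rw [e] at h1'
    rw [vBits_four p hp h1'] at hpc
    exact T.memV_cl_zero hv hpc

/-- A map of the centralizer of the four group which is injective on it. -/
theorem exists_split :
    ∃ ψ : Kgrp θ t →* Multiplicative (ZMod 2 × ZMod 2),
      (∀ x : Kgrp θ t, MemV θ t (x : G) → ψ x = 1 → x = 1) ∧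
      (∀ q : Kgrp θ t ⧸ T.Vk, ∃ x, ψ x = 1 ∧ (x : Kgrp θ t ⧸ T.Vk) = q) := by
  classical
  obtain ⟨φ, hφ⟩ := exists_hom_T T
  obtain ⟨S, hS⟩ : ∃ S, S = (Subgroup.centralizer ({z, s, t} : Set G)).subgroupOf (Kgrp θ t) :=
    ⟨_, rfl⟩
  subst hS
  have hindex : ((Subgroup.centralizer ({z, s, t} : Set G)).subgroupOf (Kgrp θ t)).index = 315 := by
    have h := ((Subgroup.centralizer ({z, s, t} : Set G)).subgroupOf (Kgrp θ t)).card_mul_index
    rw [Nat.card_congr (Subgroup.subgroupOfEquivOfLe T.Tgrp_le_K).toEquiv, T.card_Tgrp,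
      T.card_K] at h
    omega
  have hinj : ∀ x : Kgrp θ t, MemV θ t (x : G) → φ.transfer x = 1 → x = 1 := by
    intro x hx h1
    have key : ∀ (k : ℕ) (g₀ : Kgrp θ t),
        g₀⁻¹ * x ^ k * g₀ ∈ (Subgroup.centralizer ({z, s, t} : Set G)).subgroupOf (Kgrp θ t) →
          g₀⁻¹ * x ^ k * g₀ = x ^ k := by
      intro k g₀ _
      have hc : Commute g₀ x := Subtype.ext (hx.comm g₀.2)
      rw [mul_assoc, ← (hc.pow_right k).eq, inv_mul_cancel_left]
    rw [MonoidHom.transfer_eq_pow φ x key] at h1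
    have hxx : x * x = 1 := Subtype.ext (T.memV_sq hx)
    have hpow : x ^ ((Subgroup.centralizer ({z, s, t} : Set G)).subgroupOf (Kgrp θ t)).index = x := by
      rw [hindex, show (315 : ℕ) = 2 * 157 + 1 by norm_num, pow_succ, pow_mul, pow_two, hxx, one_pow,
        one_mul]
    have := hφ _ (by
      show MemV θ t ((x ^ _ : Kgrp θ t) : G)
      rw [hpow]; exact hx) h1
    refine Subtype.ext ?_
    rw [← hpow]
    exact this
  refine ⟨φ.transfer, hinj, ?_⟩
  let f : T.Vk → Multiplicative (ZMod 2 × ZMod 2) := fun v => φ.transfer v.1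
  have hf : Function.Injective f := fun a b h => by
    have h' : φ.transfer (a.1 * b.1⁻¹) = 1 := by
      rw [map_mul, map_inv]
      exact mul_inv_eq_one.2 h
    exact Subtype.ext (mul_inv_eq_one.1 (hinj _ (T.memV_mul a.2 (T.memV_inv b.2)) h'))
  have hsurj : Function.Surjective f := (hf.bijective_of_nat_card_le (by
    rw [T.card_Vk]; simp [Nat.card_eq_fintype_card])).2
  intro q
  obtain ⟨x, rfl⟩ := QuotientGroup.mk_surjective q
  obtain ⟨v, hv⟩ := hsurj (φ.transfer x)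
  refine ⟨v.1 * x, ?_, ?_⟩
  · rw [map_mul]
    show f v * _ = 1
    rw [hv, sq_vBits]
  · rw [QuotientGroup.mk_mul, T.mk_eq_one.2 v.2, one_mul]

/-- A complement to the four group, with the elements that lie in it. -/
theorem exists_complement :
    ∃ L : Subgroup G, L ≤ Kgrp θ t ∧ (∀ v ∈ L, MemV θ t v → v = 1) ∧
      (∀ x ∈ Kgrp θ t, ∀ y ∈ Kgrp θ t, IsConj z x → IsConj z y → (x * y) ^ 2 = z →
        ∀ r, r * t = t * r → IsConj z r → r ∈ L) ∧
      (∀ r, r * t = t * r → r * r * r = 1 → r ∈ L) ∧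
      ∃ E : L ≃* (Kgrp θ t ⧸ T.Vk),
        ∀ l : L, ∀ hl : (l : G) ∈ Kgrp θ t, E l = ((⟨l, hl⟩ : Kgrp θ t) : Kgrp θ t ⧸ T.Vk) := by
  obtain ⟨ψ, hinj, hsurj⟩ := exists_split T
  have hmem : ∀ {l : G}, l ∈ ψ.ker.map (Kgrp θ t).subtype ↔
      ∃ h : l ∈ Kgrp θ t, ψ ⟨l, h⟩ = 1 := by
    intro l
    constructor
    · rintro ⟨k, hk, rfl⟩
      exact ⟨k.2, hk⟩
    · rintro ⟨h, e⟩
      exact ⟨⟨l, h⟩, e, rfl⟩
  refine ⟨ψ.ker.map (Kgrp θ t).subtype, Subgroup.map_subtype_le _, ?_, ?_, ?_, ?_⟩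
  · intro v hv hV
    obtain ⟨h, e⟩ := hmem.1 hv
    exact congrArg Subtype.val (hinj ⟨v, h⟩ hV e)
  · intro x hx y hy _ _ hxy r hr hc
    have hz : ψ ⟨z, T.z_mem_K⟩ = 1 := by
      rw [show (⟨z, T.z_mem_K⟩ : Kgrp θ t) = (⟨x, hx⟩ * ⟨y, hy⟩) ^ 2 from Subtype.ext hxy.symm,
        map_pow, pow_two, sq_vBits]
    obtain ⟨g, hg, rfl⟩ := T.exists_conj_of_zType hr hc
    refine hmem.2 ⟨T.conj_mem_K hg T.z_mem_K, ?_⟩
    rw [show (⟨g * z * g⁻¹, T.conj_mem_K hg T.z_mem_K⟩ : Kgrp θ t) =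
      ⟨g, hg⟩ * ⟨z, T.z_mem_K⟩ * (⟨g, hg⟩ : Kgrp θ t)⁻¹ from rfl, map_mul, map_mul, hz, mul_one,
      map_inv, mul_inv_cancel]
  · intro r hr h3
    have hK : r ∈ Kgrp θ t := by
      refine mem_Kgrp.2 ⟨hr, mul_inv_eq_iff_eq_mul.1 ?_⟩
      rcases T.X_normalizes hr with e | e
      · exact e
      · exfalso
        have ht : ∀ u, r * (t * u) * r⁻¹ = t * (r * u * r⁻¹) := fun u => by
          rw [← mul_assoc r, hr, mul_assoc t r u, mul_assoc t]
        obtain ⟨u, hu⟩ : ∃ u, u = θ * t * θ⁻¹ := ⟨_, rfl⟩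
        rw [← hu] at e
        have e2 : r * (r * u * r⁻¹) * r⁻¹ = u := by
          rw [e, ht, e, ← mul_assoc, T.t_sq, one_mul]
        have e3 : r * (r * (r * u * r⁻¹) * r⁻¹) * r⁻¹ = u := by
          rw [show r * (r * (r * u * r⁻¹) * r⁻¹) * r⁻¹ = r * r * r * u * (r * r * r)⁻¹ by group, h3]
          group
        rw [e2, e] at e3
        exact T.t_ne_one (mul_eq_right.1 e3)
    refine hmem.2 ⟨hK, ?_⟩
    have h : ψ ⟨r, hK⟩ * ψ ⟨r, hK⟩ * ψ ⟨r, hK⟩ = 1 := by
      rw [← map_mul, ← map_mul, show (⟨r, hK⟩ * ⟨r, hK⟩ * ⟨r, hK⟩ : Kgrp θ t) = 1 from Subtype.ext h3,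
        map_one]
    rwa [sq_vBits, one_mul] at h
  · have hle : ψ.ker.map (Kgrp θ t).subtype ≤ Kgrp θ t := Subgroup.map_subtype_le _
    let f : ψ.ker.map (Kgrp θ t).subtype →* Kgrp θ t ⧸ T.Vk :=
      (QuotientGroup.mk' T.Vk).comp (Subgroup.inclusion hle)
    refine ⟨MulEquiv.ofBijective f ⟨?_, ?_⟩, fun l hl => rfl⟩
    · refine (injective_iff_map_eq_one f).2 fun l hl => Subtype.ext ?_
      obtain ⟨h, e⟩ := hmem.1 l.2
      exact show (l : G) = 1 from congrArg Subtype.val (hinj ⟨l, h⟩ (T.mk_eq_one.1 hl) e)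
    · intro q
      obtain ⟨x, hx, rfl⟩ := hsurj q
      exact ⟨⟨x, hmem.2 ⟨x.2, hx⟩⟩, rfl⟩

end CfsgLib.SuzRecognition
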