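import Cfsg.Agent.SuzRecognition.Config
import Cfsg.Agent.SuzRecognition.Split
import Cfsg.Agent.SuzRecognition.Model
import Cfsg.Agent.SuzRecognition.Finish
import Cfsg.Agent.SuzRecognition.Iso
import Cfsg.Agent.SuzType.Order
import Cfsg.Agent.SuzType.SevenComm

/-!
# Recognition of the Suzuki sporadic group
-/

set_option autoImplicit false
set_option linter.style.haveILetI false
set_option linter.unusedSectionVars false
set_option maxHeartbeats 1000000

namespace CfsgLib.SuzRecognition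

open CfsgLib.SuzType

variable {G : Type*} [Group G]

/-- Interchanging the last two generators. -/
theorem Rels.swap {a b c d e f g : G} (R : Rels a b c d e f g) : Rels a b c d e g f where
  aa := R.aa
  bb := R.bb
  cc := R.cc
  dd := R.dd
  ee := R.ee
  ff := R.gg
  gg := R.ff
  ab := R.ab
  bc := R.bc
  cd := R.cd
  de := R.de
  bf := R.bg
  fg := pow_swap R.fg
  bg := R.bf
  ac := R.ac
  ad := R.ad
  ae := R.ae
  af := R.ag
  ag := R.af
  bd := R.bd
  be := R.be
  ce := R.ce
  cf := R.cg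
  cg := R.cf
  df := R.dg
  dg := R.df
  ef := R.eg
  eg := R.ef
  a_cd := R.a_cd
  a_fg := by
    have e : g * f = f * (f * g) * f⁻¹ := by rw [← mul_assoc f f g, R.ff, one_mul, inv_of_sq R.ff]
    rw [e, conj_pow, ← R.a_fg, ← R.af, mul_inv_cancel_right]
  abcf := R.abcg
  abcg := R.abcf
  bfg := by
    have e : b * g * f = (f * g * b)⁻¹ := by
      simp [inv_of_sq R.bb, inv_of_sq R.ff, inv_of_sq R.gg, mul_assoc]
    have e' : f * g * b = b⁻¹ * (b * f * g) * b⁻¹⁻¹ := by group
    rw [e, inv_pow, e', conj_pow, R.bfg, mul_one, mul_inv_cancel, inv_one]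

theorem eq_one_of_pow_two_five {y : G} (h2 : y ^ 2 = 1) (h5 : y ^ 5 = 1) : y = 1 := by
  have : y ^ 5 = (y ^ 2) ^ 2 * y := by simp [pow_succ, mul_assoc]
  rwa [h5, h2, one_pow, one_mul, eq_comm] at this

variable [Finite G] {z s θ t : G} {Q P : Subgroup G} {π : G → V6}
  (T : Four z Q π P s θ t)
include T

/-- A group of Suzuki type is the Suzuki group. -/
theorem isoSuz_of_four : Cfsg.Spor.IsoSuz G := by
  classical
  have hseven : ∀ x u v : G, orderOf x = 7 → u * u = 1 → v * v = 1 → u * x = x * u → v * x = x * v →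
      u * v = v * u := fun x u v hx hu hv hux hvx => T.commute_of_seven hx hu hv hux hvx
  obtain ⟨d, f, g, c, r₁, r₂, C⟩ := T.exists_config
  obtain ⟨L, hLK, hLV, hzmem, hcube, E, hE⟩ := exists_complement T
  have hz1 : z ≠ 1 := T.frame.data.sub.ne_one
  have hz2 : z * z = 1 := T.frame.data.sub.mul_self
  have hK : ∀ {x}, x * t = t * x → IsConj z x → x ∈ Kgrp θ t := fun hx hc => by
    obtain ⟨k, hk, rfl⟩ := T.exists_conj_of_zType hx hc
    exact T.conj_mem_K hk T.z_mem_K
  have hmem : ∀ {x}, x * t = t * x → IsConj z x → x ∈ L := fun hx hc =>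
    hzmem f (hK C.fe C.f_cl) g (hK C.ge C.g_cl) C.f_cl C.g_cl C.fg2 _ hx hc
  have hfL : f ∈ L := hmem C.fe C.f_cl
  have hgL : g ∈ L := hmem C.ge C.g_cl
  have hcL : c ∈ L := hmem C.ce C.c_cl
  have hzL : z ∈ L := C.fg2 ▸ pow_mem (mul_mem hfL hgL) 2
  have hr1 : r₁ ∈ L := hcube _ C.r1e C.r1cube
  have hr2 : r₂ ∈ L := hcube _ C.r2e C.r2cube
  obtain ⟨F, hF1, hF2, hF4, ⟨eq⟩⟩ := T.quot_equiv
  obtain ⟨H0, hH0⟩ : ∃ H0 : Subgroup L, H0 =
      Subgroup.closure ({⟨f, hfL⟩, ⟨g, hgL⟩, ⟨r₁, hr1⟩, ⟨r₂, hr2⟩} : Set L) := ⟨_, rfl⟩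
  have hDcomm : ∀ x ∈ H0, (x : G) * d = d * x ∧ (x : G) * t = t * x := by
    intro x hx
    have hle : H0 ≤ (Subgroup.centralizer ({d, t} : Set G)).comap L.subtype := by
      rw [hH0, Subgroup.closure_le]
      rintro y hy
      simp only [Set.mem_insert_iff, Set.mem_singleton_iff] at hy
      rcases hy with rfl | rfl | rfl | rfl <;>
        simp only [SetLike.mem_coe, Subgroup.mem_comap, Subgroup.mem_centralizer_iff,
          Set.mem_insert_iff, Set.mem_singleton_iff, forall_eq_or_imp, forall_eq] <;>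
        constructor <;> first
          | exact C.fd.symm | exact C.fe.symm | exact C.gd.symm | exact C.ge.symm
          | exact C.r1d.symm | exact C.r1e.symm | exact C.r2d.symm | exact C.r2e.symm
    have := hle hx
    simp only [Subgroup.mem_comap, Subgroup.mem_centralizer_iff, Set.mem_insert_iff,
      Set.mem_singleton_iff, forall_eq_or_imp, forall_eq] at this
    exact ⟨this.1.symm, this.2.symm⟩
  have hD : (⟨c, hcL⟩ : L) ∉ Subgroup.closure ({⟨f, hfL⟩, ⟨g, hgL⟩} : Set L) := fun h => by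
    refine C.c_not ?_
    have h' := Subgroup.mem_map_of_mem L.subtype h
    rw [MonoidHom.map_closure] at h'
    simpa [Set.image_insert_eq, Set.image_singleton] using h'
  have hgen := exists_generator_b hF4 (E.trans eq) (z := ⟨z, hzL⟩) (f := ⟨f, hfL⟩) (g := ⟨g, hgL⟩)
    (c := ⟨c, hcL⟩) (r1 := ⟨r₁, hr1⟩) (r2 := ⟨r₂, hr2⟩) (Subtype.ext C.fg2)
    (fun e => hz1 (congrArg Subtype.val e)) (Subtype.ext hz2) (Subtype.ext C.ff) (Subtype.ext C.gg)
    (Subtype.ext C.cc) (Subtype.ext C.cf) (Subtype.ext C.cg) hD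
    (Subtype.ext (by rw [SubmonoidClass.coe_pow, pow_succ, pow_two]; exact C.r1cube))
    (Subtype.ext C.r1z) (Subtype.ext C.r1f)
    (Subtype.ext (by rw [SubmonoidClass.coe_pow, pow_succ, pow_two]; exact C.r2cube))
    (Subtype.ext C.r2z) (Subtype.ext C.r2g)
  rw [← hH0] at hgen
  rcases hgen with ⟨x, hx, h7⟩ | ⟨b, hb, hb2, hbc, hbf, hbg, hzb, hzbcf, hzbcg, hbfg, htop⟩
  · exfalso
    obtain ⟨hxd, hxt⟩ := hDcomm x hx
    have hc := hseven (x : G) d t (by rw [Subgroup.orderOf_coe, h7]) C.dd T.t_sq hxd.symm hxt.symm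
    have h2 : (d * t) ^ 2 = 1 := by
      rw [pow_two, mul_assoc, ← mul_assoc t d t, ← hc, mul_assoc d t t, T.t_sq, mul_one, C.dd]
    have h1 : d * t = 1 := by
      have h3 := C.de
      rwa [pow_succ, h2, one_mul] at h3
    exact C.dne (by rw [eq_inv_of_mul_eq_one_left h1, inv_of_sq T.t_sq])
  · obtain ⟨hbd, hbt⟩ := hDcomm b hb
    have cG : ∀ {x : L} {k : ℕ}, x ^ k = 1 → (x : G) ^ k = 1 := fun h => by
      rw [← SubmonoidClass.coe_pow, h]; rfl
    have R : Rels z (b : G) c d t f g :=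
      { aa := hz2, bb := congrArg Subtype.val hb2, cc := C.cc, dd := C.dd, ee := T.t_sq
        ff := C.ff, gg := C.gg
        ab := cG hzb, bc := cG hbc
        cd := by rw [show (8 : ℕ) = 4 * 2 from rfl, pow_mul, C.cd4, pow_two, hz2]
        de := C.de, bf := cG hbf
        fg := by rw [show (4 : ℕ) = 2 * 2 from rfl, pow_mul, C.fg2, pow_two, hz2]
        bg := cG hbg
        ac := C.cz.symm, ad := C.dz.symm, ae := C.ez.symm, af := C.fz.symm, ag := C.gz.symm
        bd := hbd, be := hbt, ce := C.ce, cf := C.cf, cg := C.cg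
        df := C.fd.symm, dg := C.gd.symm, ef := C.fe.symm, eg := C.ge.symm
        a_cd := C.cd4.symm, a_fg := C.fg2.symm
        abcf := cG hzbcf, abcg := cG hzbcg, bfg := cG hbfg }
    have hab : z * (b : G) ≠ b * z := by
      intro h
      have h2 : (z * (b : G)) ^ 2 = 1 := by
        rw [pow_two, mul_assoc, ← mul_assoc (b : G) z b, ← h, mul_assoc z (b : G) b, R.bb, mul_one,
          hz2]
      have h1 := eq_one_of_pow_two_five h2 R.ab
      have hbz : (b : G) = z := by rw [eq_inv_of_mul_eq_one_right h1, inv_of_sq hz2]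
      have hzf : (z * f) ^ 3 = 1 := hbz ▸ R.bf
      have hzf2 : (z * f) ^ 2 = 1 := by
        rw [pow_two, mul_assoc, ← mul_assoc f z f, C.fz, mul_assoc z f f, C.ff, mul_one, hz2]
      have e1 : z * f = 1 := by rwa [pow_succ, hzf2, one_mul] at hzf
      have e2 := C.r1f
      rw [e1, conj_eq_one_iff] at e2
      rw [e2, mul_one] at e1
      exact hz1 e1
    -- the image of `z * b` has order five
    have hq5 : E (⟨z, hzL⟩ * b) ≠ 1 := fun h => hab (by
      have h' : z * (b : G) = 1 := congrArg Subtype.val (E.map_eq_one_iff.1 h)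
      rw [h', eq_inv_of_mul_eq_one_right h', inv_of_sq hz2, hz2])
    have hcit : ∀ q : Kgrp θ t ⧸ T.Vk, q * q = 1 →
        q * E (⟨z, hzL⟩ * b) = E (⟨z, hzL⟩ * b) * q → q = 1 := by
      intro q hq hcomm
      by_contra hne
      obtain ⟨k, hk⟩ := T.isCIT_quot q (CfsgLib.CITGroups.orderOf_two_of_mul_self hq hne)
        ⟨_, Subgroup.mem_centralizer_singleton_iff.2 hcomm.symm⟩
      have hk' : E (⟨z, hzL⟩ * b) ^ 2 ^ k = 1 := congrArg Subtype.val hk
      have h5 : E (⟨z, hzL⟩ * b) ^ 5 = 1 := by rw [← map_pow, hzb, map_one]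
      have h1 := pow_gcd_eq_one.2 ⟨hk', h5⟩
      rw [Nat.Coprime.pow_left k (by norm_num : Nat.Coprime 2 5), pow_one] at h1
      exact hq5 h1
    have h5 : (z * (b : G) * c) ^ 5 = 1 := by
      obtain ⟨h10, hcomm⟩ := R.abc_facts
      have hy := hcit (E ((⟨z, hzL⟩ * b * ⟨c, hcL⟩) ^ 5))
        (by
          rw [← map_mul, ← map_one E]
          refine congrArg E (Subtype.ext ?_)
          rw [Subgroup.coe_mul, SubmonoidClass.coe_pow, ← pow_add]
          exact h10)
        (by
          rw [← map_mul, ← map_mul]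
          exact congrArg E (Subtype.ext hcomm))
      exact congrArg Subtype.val (E.map_eq_one_iff.1 hy)
    obtain ⟨t1, ht1⟩ : ∃ t1, t1 = θ * t * θ⁻¹ := ⟨_, rfl⟩
    have hC : ∀ i : G, i * i = 1 → i * b = b * i → i * c = c * i → i * f = f * i → i * g = g * i →
        i = 1 ∨ i = t ∨ i = t1 ∨ i = t * t1 := by
      intro i hi hib hic hif hig
      have hall : ∀ l : L, (l : G) * i = i * l := by
        intro l
        have hle : (⊤ : Subgroup L) ≤ (Subgroup.centralizer ({i} : Set G)).comap L.subtype := by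
          rw [← htop, Subgroup.closure_le]
          intro y hy
          simp only [Set.mem_insert_iff, Set.mem_singleton_iff] at hy
          simp only [SetLike.mem_coe, Subgroup.mem_comap, Subgroup.mem_centralizer_singleton_iff]
          rcases hy with rfl | rfl | rfl | rfl
          exacts [hib.symm, hic.symm, hif.symm, hig.symm]
        exact Subgroup.mem_centralizer_singleton_iff.1 (Subgroup.mem_comap.1 (hle (Subgroup.mem_top l)))
      haveI : Fact (Nat.Prime 7) := ⟨by norm_num⟩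
      obtain ⟨x, hx⟩ := exists_prime_orderOf_dvd_card' (G := L) 7 (by
        rw [Nat.card_congr E.toEquiv, Nat.card_congr eq.toEquiv,
          CfsgLib.EPPOFour.card_psl_three_four hF4]
        norm_num)
      have hxK := hLK x.2
      have hx7 : orderOf (x : G) = 7 := by rw [Subgroup.orderOf_coe, hx]
      have hit := hseven (x : G) i t hx7 hi T.t_sq (hall x).symm (mem_Kgrp.1 hxK).1.symm
      have hit1 := hseven (x : G) i (θ * t * θ⁻¹) hx7 hi T.t1_sq (hall x).symm
        (mem_Kgrp.1 hxK).2.symm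
      have hiK : i ∈ Kgrp θ t := mem_Kgrp.2 ⟨hit, hit1⟩
      have hq := hcit ((⟨i, hiK⟩ : Kgrp θ t) : Kgrp θ t ⧸ T.Vk)
        (by
          rw [← QuotientGroup.mk_mul, show (⟨i, hiK⟩ * ⟨i, hiK⟩ : Kgrp θ t) = 1 from Subtype.ext hi,
            QuotientGroup.mk_one])
        (by
          rw [hE _ (hLK (⟨z, hzL⟩ * b : L).2), ← QuotientGroup.mk_mul, ← QuotientGroup.mk_mul]
          exact congrArg _ (Subtype.ext (hall (⟨z, hzL⟩ * b)).symm))
      have hV : MemV θ t i := T.mk_eq_one.1 hq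
      rw [ht1]
      exact hV
    have h7 := R.seventh h5 hab C.dne (u := t1) (ht1 ▸ T.t1_sq) (ht1 ▸ T.comm_t1) hC R.swap
    exact isoSuz_of_rels R h7 hz1 T.card_eq

end CfsgLib.SuzRecognition
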