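import Mathlib

/-!
# A small checker for memberships derived from relations between involutions

A word is coded by a number in base eight with a leading one.  A step asserts that the translate
of the letter (or the empty word) between two coded words lies in a subgroup; it is justified by
reading a relator, or a subgroup generator at the empty word, along earlier steps.
-/

set_option autoImplicit false

namespace CfsgLib.SuzRecognition.Cert

/-- A step: the claim `u`, `l`, `v`, then the start, the relator and the two paths. -/
structure Step where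
  /-- Left end. -/
  u : ℕ
  /-- Letter, or `8` for none. -/
  l : ℕ
  /-- Right end. -/
  v : ℕ
  /-- Start of the relator. -/
  start : ℕ
  /-- Number of the relator. -/
  rel : ℕ
  /-- Path before the letter. -/
  pre : List ℕ
  /-- Path after the letter. -/
  post : List ℕ

/-- Steps indexed by a tree. -/
inductive Tree where
  | leaf (s : Step)
  | node (n : ℕ) (l r : Tree)

/-- The step with a given number. -/
def Tree.get : Tree → ℕ → Step
  | .leaf s, _ => s
  | .node n l r, i => bif Nat.blt i n then l.get i else r.get (i - n)

/-- Read a letter from the head of a word. -/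
def eat (x : ℕ) : List ℕ → Option (List ℕ)
  | [] => none
  | y :: r => bif Nat.beq y x then some r else none

/-- Read a label. -/
def eatLabel (l : ℕ) (w : List ℕ) : Option (List ℕ) :=
  bif Nat.beq l 8 then some w else (bif Nat.blt l 8 then eat l w else none)

/-- One move: `4x` appends, `1` drops, `4i+2` and `4i+3` use step `i` forwards and backwards. -/
def move (t : Tree) (bound m a : ℕ) (w : List ℕ) : Option (ℕ × List ℕ) :=
  match m % 4 with
  | 0 => bif Nat.blt (m / 4) 8 && Nat.blt 0 a then
      (eat (m / 4) w).map fun r => (a * 8 + m / 4, r) else none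
  | 1 => bif Nat.blt 7 a then (eat (a % 8) w).map fun r => (a / 8, r) else none
  | 2 => bif Nat.blt (m / 4) bound && Nat.beq (t.get (m / 4)).u a then
      (eatLabel (t.get (m / 4)).l w).map fun r => ((t.get (m / 4)).v, r) else none
  | _ => bif Nat.blt (m / 4) bound && Nat.beq (t.get (m / 4)).v a then
      (eatLabel (t.get (m / 4)).l w).map fun r => ((t.get (m / 4)).u, r) else none

/-- A path of moves. -/
def run (t : Tree) (bound : ℕ) : List ℕ → ℕ → List ℕ → Option (ℕ × List ℕ)
  | [], a, w => some (a, w)
  | m :: ms, a, w =>
    match move t bound m a w with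
    | none => none
    | some (b, r) => run t bound ms b r

/-- The word of a relator; the words after the relators may be read at the empty word only. -/
def relWord (rs ss : List (List ℕ)) (start r : ℕ) : Option (List ℕ) :=
  bif Nat.blt r rs.length then rs[r]? else
  bif Nat.blt r (rs.length + ss.length) then
    (bif Nat.beq start 1 then ss[r - rs.length]? else none) else
  bif Nat.blt (r - (rs.length + ss.length)) 8 then
    some [r - (rs.length + ss.length), r - (rs.length + ss.length)] else
  bif Nat.beq (r - (rs.length + ss.length)) 8 then some [] else none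

/-- Check a step. -/
def stepOK (rs ss : List (List ℕ)) (t : Tree) (i : ℕ) (s : Step) : Bool :=
  match relWord rs ss s.start s.rel with
  | none => false
  | some w =>
    match run t i s.pre s.start w with
    | none => false
    | some (a, w1) => Nat.beq a s.u &&
      match eatLabel s.l w1 with
      | none => false
      | some w2 =>
        match run t i s.post s.v w2 with
        | some (b, []) => Nat.beq b s.start
        | _ => false

/-- Check the first `n` steps. -/
def checkTo (rs ss : List (List ℕ)) (t : Tree) : ℕ → Bool
  | 0 => true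
  | n + 1 => stepOK rs ss t n (t.get n) && checkTo rs ss t n

/-- Check the steps from `lo` for `len` places. -/
def checkFrom (rs ss : List (List ℕ)) (t : Tree) (lo : ℕ) : ℕ → Bool
  | 0 => true
  | n + 1 => stepOK rs ss t (lo + n) (t.get (lo + n)) && checkFrom rs ss t lo n

/-- Check that a word is closed at the empty word. -/
def goalOK (t : Tree) (n : ℕ) (path w : List ℕ) : Bool :=
  match run t n path 1 w with
  | some (a, []) => Nat.beq a 1
  | _ => false

section Sound

variable {G : Type*} [Group G] (g : ℕ → G)

/-- The product of a word. -/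
def prodw (w : List ℕ) : G := (w.map g).prod

/-- The element of a coded word. -/
def val (a : ℕ) : G :=
  if a ≤ 7 then 1 else val (a / 8) * g (a % 8)
termination_by a

theorem val_one : val g 1 = 1 := by rw [val]; simp

theorem val_app {a x : ℕ} (ha : 0 < a) (hx : x < 8) : val g (a * 8 + x) = val g a * g x := by
  rw [val, if_neg (by omega), show (a * 8 + x) / 8 = a by omega, show (a * 8 + x) % 8 = x by omega]

variable (H : Subgroup G)

/-- The meaning of a step. -/
def Holds (u : ℕ) (m : List ℕ) (v : ℕ) : Prop := val g u * prodw g m * (val g v)⁻¹ ∈ H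

variable {g H}

theorem eat_eq {x : ℕ} {w r : List ℕ} (h : eat x w = some r) : w = x :: r := by
  cases w with
  | nil => simp [eat] at h
  | cons y w =>
    simp only [eat] at h
    cases hb : Nat.beq y x <;> rw [hb] at h
    · simp at h
    · obtain rfl := Nat.eq_of_beq_eq_true hb
      simp only [cond_true, Option.some.injEq] at h
      rw [h]

/-- The word of a label. -/
def labWord (l : ℕ) : List ℕ := if l = 8 then [] else [l]

theorem eatLabel_eq {l : ℕ} {w r : List ℕ} (h : eatLabel l w = some r) :
    w = labWord l ++ r ∧ l ≤ 8 := by
  unfold eatLabel at h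
  cases hb : Nat.beq l 8 <;> rw [hb] at h
  · cases hl : Nat.blt l 8 <;> rw [hl] at h
    · simp at h
    · have hlt : l < 8 := by rwa [Nat.blt_eq] at hl
      simp only [cond_false, cond_true] at h
      rw [eat_eq h, labWord, if_neg (by omega)]
      exact ⟨rfl, hlt.le⟩
  · obtain rfl := Nat.eq_of_beq_eq_true hb
    simp only [cond_true, Option.some.injEq] at h
    simp [labWord, h]

theorem holds_refl (a : ℕ) : Holds g H a [] a := by simp [Holds, prodw, H.one_mem]

theorem holds_trans {a b c : ℕ} {m m' : List ℕ} (h : Holds g H a m b) (h' : Holds g H b m' c) :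
    Holds g H a (m ++ m') c := by
  simpa [Holds, prodw, mul_assoc] using H.mul_mem h h'

variable (hinv : ∀ x, x < 8 → g x * g x = 1)
include hinv

theorem labWord_inv {l : ℕ} (hl : l ≤ 8) : (prodw g (labWord l))⁻¹ = prodw g (labWord l) := by
  unfold labWord
  split
  · simp [prodw]
  · simp [prodw, inv_eq_of_mul_eq_one_right (hinv l (by omega))]

theorem move_sound {t : Tree} {bound m a : ℕ} {w : List ℕ}
    (ht : ∀ i, i < bound → Holds g H (t.get i).u (labWord (t.get i).l) (t.get i).v)
    {b : ℕ} {r : List ℕ} (h : move t bound m a w = some (b, r)) :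
    ∃ l, w = l ++ r ∧ Holds g H a l b := by
  unfold move at h
  split at h
  · cases hc : Nat.blt (m / 4) 8 && Nat.blt 0 a <;> rw [hc] at h
    · simp at h
    · simp only [Bool.and_eq_true, Nat.blt_eq] at hc
      simp only [cond_true, Option.map_eq_some_iff, Prod.mk.injEq] at h
      obtain ⟨r', hr, rfl, rfl⟩ := h
      refine ⟨[m / 4], eat_eq hr, ?_⟩
      simp [Holds, val_app g hc.2 hc.1, prodw, H.one_mem]
  · cases hc : Nat.blt 7 a <;> rw [hc] at h
    · simp at h
    · simp only [Nat.blt_eq] at hc
      simp only [cond_true, Option.map_eq_some_iff, Prod.mk.injEq] at h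
      obtain ⟨r', hr, rfl, rfl⟩ := h
      refine ⟨[a % 8], eat_eq hr, ?_⟩
      have e : val g a = val g (a / 8) * g (a % 8) := by
        rw [val, if_neg (by omega)]
      simp [Holds, e, prodw, mul_assoc, hinv (a % 8) (by omega), H.one_mem]
  · cases hc : Nat.blt (m / 4) bound && Nat.beq (t.get (m / 4)).u a <;> rw [hc] at h
    · simp at h
    · simp only [Bool.and_eq_true, Nat.blt_eq, Nat.beq_eq] at hc
      simp only [cond_true, Option.map_eq_some_iff, Prod.mk.injEq] at h
      obtain ⟨r', hr, rfl, rfl⟩ := h
      exact ⟨_, (eatLabel_eq hr).1, hc.2 ▸ ht _ hc.1⟩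
  · cases hc : Nat.blt (m / 4) bound && Nat.beq (t.get (m / 4)).v a <;> rw [hc] at h
    · simp at h
    · simp only [Bool.and_eq_true, Nat.blt_eq, Nat.beq_eq] at hc
      simp only [cond_true, Option.map_eq_some_iff, Prod.mk.injEq] at h
      obtain ⟨r', hr, rfl, rfl⟩ := h
      refine ⟨_, (eatLabel_eq hr).1, ?_⟩
      have := H.inv_mem (ht _ hc.1)
      rw [Holds, ← hc.2, ← labWord_inv hinv (eatLabel_eq hr).2]
      simpa [mul_assoc] using this

theorem run_sound {t : Tree} {bound : ℕ}
    (ht : ∀ i, i < bound → Holds g H (t.get i).u (labWord (t.get i).l) (t.get i).v) :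
    ∀ (ms : List ℕ) (a : ℕ) (w : List ℕ) (b : ℕ) (r : List ℕ),
      run t bound ms a w = some (b, r) → ∃ l, w = l ++ r ∧ Holds g H a l b := by
  intro ms
  induction ms with
  | nil =>
    intro a w b r h
    simp only [run, Option.some.injEq, Prod.mk.injEq] at h
    obtain ⟨rfl, rfl⟩ := h
    exact ⟨[], rfl, holds_refl a⟩
  | cons m ms ih =>
    intro a w b r h
    simp only [run] at h
    split at h
    · simp at h
    · rename_i b' r' hm
      obtain ⟨l1, rfl, h1⟩ := move_sound hinv ht hm
      obtain ⟨l2, rfl, h2⟩ := ih _ _ _ _ h
      exact ⟨l1 ++ l2, (List.append_assoc _ _ _).symm, holds_trans h1 h2⟩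

variable {rs ss : List (List ℕ)} (hrel : ∀ w ∈ rs, prodw g w = 1)
  (hsub : ∀ w ∈ ss, prodw g w ∈ H)
include hrel hsub

theorem relWord_sound {start r : ℕ} {w : List ℕ} (h : relWord rs ss start r = some w) :
    Holds g H start w start := by
  unfold relWord at h
  cases h1 : Nat.blt r rs.length <;> rw [h1] at h
  · simp only [cond_false] at h
    cases h2 : Nat.blt r (rs.length + ss.length) <;> rw [h2] at h
    · simp only [cond_false] at h
      cases h3 : Nat.blt (r - (rs.length + ss.length)) 8 <;> rw [h3] at h
      · simp only [cond_false] at h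
        cases h4 : Nat.beq (r - (rs.length + ss.length)) 8 <;> rw [h4] at h
        · simp at h
        · simp only [cond_true, Option.some.injEq] at h
          subst h
          exact holds_refl _
      · simp only [cond_true, Option.some.injEq] at h
        subst h
        rw [Nat.blt_eq] at h3
        simp [Holds, prodw, hinv _ h3, H.one_mem]
    · simp only [cond_true] at h
      cases h3 : Nat.beq start 1 <;> rw [h3] at h
      · simp at h
      · obtain rfl := Nat.eq_of_beq_eq_true h3
        simp only [cond_true] at h
        simpa [Holds, val_one] using hsub w (List.mem_of_getElem? h)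
  · simp only [cond_true] at h
    simp [Holds, hrel w (List.mem_of_getElem? h), H.one_mem]

theorem stepOK_sound {t : Tree} {i : ℕ}
    (ht : ∀ j, j < i → Holds g H (t.get j).u (labWord (t.get j).l) (t.get j).v) {s : Step}
    (h : stepOK rs ss t i s = true) : Holds g H s.u (labWord s.l) s.v := by
  unfold stepOK at h
  split at h
  · simp at h
  rename_i w hw
  split at h
  · simp at h
  rename_i a w1 hrun
  rw [Bool.and_eq_true, Nat.beq_eq] at h
  obtain ⟨rfl, h⟩ := h
  split at h
  · simp at h
  rename_i w2 hlab
  split at h
  · rename_i b hpost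
    obtain rfl := Nat.eq_of_beq_eq_true h
    obtain ⟨l1, rfl, h1⟩ := run_sound hinv ht _ _ _ _ _ hrun
    obtain ⟨l2, hl2, h2⟩ := run_sound hinv ht _ _ _ _ _ hpost
    rw [List.append_nil] at hl2
    subst hl2
    have hW := relWord_sound hinv hrel hsub hw
    rw [(eatLabel_eq hlab).1] at hW
    have := H.mul_mem (H.mul_mem (H.inv_mem h1) hW) (H.inv_mem h2)
    simpa [Holds, prodw, mul_assoc] using this
  · simp at h

/-- Soundness of the checker. -/
theorem mem_of_check {t : Tree} {n : ℕ} {path target : List ℕ}
    (hsteps : ∀ i, i < n → stepOK rs ss t i (t.get i) = true)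
    (hgoal : goalOK t n path target = true) : prodw g target ∈ H := by
  have ht : ∀ i, i < n → Holds g H (t.get i).u (labWord (t.get i).l) (t.get i).v := by
    intro i
    induction i using Nat.strong_induction_on with
    | _ i ih =>
      intro hi
      exact stepOK_sound hinv hrel hsub (fun j hj => ih j hj (by omega)) (hsteps i hi)
  unfold goalOK at hgoal
  split at hgoal
  · rename_i a hrun
    obtain rfl := Nat.eq_of_beq_eq_true hgoal
    obtain ⟨l, hl, h⟩ := run_sound hinv ht _ _ _ _ _ hrun
    rw [List.append_nil] at hl
    subst hl
    simpa [Holds, val_one] using h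
  · simp at hgoal

omit hinv hrel hsub in
theorem checkTo_spec {t : Tree} : ∀ n, checkTo rs ss t n = true →
    ∀ i, i < n → stepOK rs ss t i (t.get i) = true := by
  intro n
  induction n with
  | zero => intro _ i hi; omega
  | succ n ih =>
    intro h i hi
    simp only [checkTo, Bool.and_eq_true] at h
    rcases Nat.lt_succ_iff_lt_or_eq.1 hi with h' | rfl
    exacts [ih h.2 i h', h.1]

omit hinv hrel hsub in
theorem checkFrom_spec {t : Tree} {lo : ℕ} : ∀ n, checkFrom rs ss t lo n = true →
    ∀ i, lo ≤ i → i < lo + n → stepOK rs ss t i (t.get i) = true := by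
  intro n
  induction n with
  | zero => intro _ i hi hi'; omega
  | succ n ih =>
    intro h i hi hi'
    simp only [checkFrom, Bool.and_eq_true] at h
    rcases Nat.lt_succ_iff_lt_or_eq.1 (show i < lo + n + 1 by omega) with h' | rfl
    exacts [ih h.2 i hi h', h.1]

end Sound

/-- A letter table. -/
def letters {G : Type*} [Group G] (l : List G) (x : ℕ) : G := l.getD x 1

theorem letters_inv {G : Type*} [Group G] {l : List G} (h : ∀ x ∈ l, x * x = 1) (x : ℕ) :
    letters l x * letters l x = 1 := by
  unfold letters
  by_cases hx : x < l.length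
  · rw [List.getD_eq_getElem _ _ hx]; exact h _ (List.getElem_mem hx)
  · rw [List.getD_eq_default _ _ (Nat.le_of_not_lt hx), one_mul]

end CfsgLib.SuzRecognition.Cert
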