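import Cfsg.Agent.SuzRecognition.Cert

/-!
# Two consequences of the Coxeter relations of the icosahedral group

The steps were found by a coset enumeration; the kernel checks each of them.
-/

set_option autoImplicit false
set_option maxRecDepth 20000

namespace CfsgLib.SuzRecognition.Cert.Cox

/-- The relators. -/
def rs : List (List ℕ) :=
  [[0, 0],
   [0, 1, 0, 1, 0, 1, 0, 1, 0, 1],
   [0, 2, 0, 2],
   [1, 1],
   [1, 2, 1, 2, 1, 2],
   [2, 2]]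

/-- The subgroup generators. -/
def ss : List (List ℕ) :=
  []

def t0 : Tree :=
  .node 19
  (.node 9
  (.node 4
  (.node 2
  (.node 1
  (.leaf ⟨136348168, 1, 1, 1, 1, [0, 4, 0, 4, 0, 4, 0, 4, 0], []⟩)
  (.leaf ⟨528, 2, 1, 1, 2, [0, 8, 0], []⟩))
  (.node 1
  (.leaf ⟨69810262154, 1, 528, 1, 4, [3, 8, 4, 8], [6]⟩)
  (.leaf ⟨4162, 0, 522, 65, 2, [0, 8], [1]⟩)))
  (.node 2
  (.node 1
  (.leaf ⟨2130570, 1, 4162, 520, 4, [4, 8, 4, 8], [1]⟩)
  (.leaf ⟨266306, 0, 33290, 4161, 2, [0, 8], [1]⟩))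
  (.node 1
  (.leaf ⟨136348298, 1, 266306, 33288, 4, [4, 8, 4, 8], [1]⟩)
  (.node 1
  (.leaf ⟨17043522, 0, 2130442, 266305, 2, [0, 8], [1]⟩)
  (.leaf ⟨8726282890, 1, 17043522, 2130440, 4, [4, 8, 4, 8], [1]⟩)))))
  (.node 5
  (.node 2
  (.node 1
  (.leaf ⟨1090785346, 0, 136348170, 17043521, 2, [0, 8], [1]⟩)
  (.leaf ⟨285942837678145, 0, 8726282769, 1090785346, 1, [38, 4, 0, 4, 0, 4, 0, 4], [1]⟩))
  (.node 1
  (.leaf ⟨285942837678145, 2, 558482097232, 8726282769, 2, [43], [1, 1]⟩)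
  (.node 1
  (.leaf ⟨35742888235073, 0, 266321, 33290, 1, [23, 27, 0, 4, 0, 4, 0, 4], [1]⟩)
  (.leaf ⟨35742888235073, 2, 17044560, 266321, 2, [51], [1, 1]⟩))))
  (.node 2
  (.node 1
  (.leaf ⟨2287542701920321, 0, 17043537, 2130442, 1, [31, 35, 0, 4, 0, 4, 0, 4], [1]⟩)
  (.leaf ⟨2287542701920321, 2, 1090786384, 17043537, 2, [59], [1, 1]⟩))
  (.node 1
  (.leaf ⟨8726282888, 2, 69810263120, 1090785361, 2, [0], [1, 1]⟩)
  (.node 1
  (.leaf ⟨285942833782865, 2, 35742854709768, 558482097232, 4, [4, 8, 4], [4, 46]⟩)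
  (.leaf ⟨285942833782850, 0, 35742854222858, 4467856777857, 2, [0, 8], [1]⟩))))))
  (.node 10
  (.node 5
  (.node 2
  (.node 1
  (.leaf ⟨146402730896818826, 1, 285942833782850, 35742854222856, 4, [4, 8, 4, 8], [1]⟩)
  (.leaf ⟨4467856838737, 2, 558482104961, 8726282888, 4, [4, 8, 4], [1, 67]⟩))
  (.node 1
  (.leaf ⟨4467856838722, 0, 558482104842, 69810263105, 2, [0, 8], [1]⟩)
  (.node 1
  (.leaf ⟨2287542701425290, 1, 4467856838722, 558482104840, 4, [4, 8, 4, 8], [1]⟩)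
  (.leaf ⟨285942833782865, 0, 35742854709770, 4467856838721, 2, [0, 71], [1]⟩))))
  (.node 2
  (.node 1
  (.leaf ⟨8726814801, 2, 4467861029384, 17044560, 4, [4, 8, 4], [4, 54]⟩)
  (.leaf ⟨558482628689, 2, 285942837740040, 1090786384, 4, [4, 8, 4], [4, 62]⟩))
  (.node 1
  (.leaf ⟨558482628674, 0, 69810328586, 8726291073, 2, [0, 8], [1]⟩)
  (.node 1
  (.leaf ⟨285943105880714, 1, 558482628674, 69810328584, 4, [4, 8, 4, 8], [1]⟩)
  (.leaf ⟨8726814801, 0, 4467861029386, 558482628673, 2, [0, 99], [1]⟩)))))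
  (.node 5
  (.node 2
  (.node 1
  (.leaf ⟨35742854717506, 0, 4467856838737, 558482104961, 2, [0, 8], [82]⟩)
  (.leaf ⟨18300341615362698, 1, 35742854717506, 4467856839688, 4, [4, 8, 4, 8], [1]⟩))
  (.node 1
  (.leaf ⟨558482628689, 0, 285942837740042, 35742854717505, 2, [0, 103], [1]⟩)
  (.node 1
  (.leaf ⟨599665585753369911361, 0, 285942837678161, 35742854222858, 1, [75, 79, 0, 4, 0, 4], [1, 95, 1]⟩)
  (.leaf ⟨9369774905037987905, 0, 18300341615362698, 558482104842, 1, [87, 91, 0, 4, 0, 4], [122, 118, 1]⟩))))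
  (.node 2
  (.node 1
  (.leaf ⟨599665585753369911361, 2, 18300341611402320, 285942837678161, 2, [131], [1, 1]⟩)
  (.leaf ⟨1171222961687404609, 0, 2287542701920337, 69810328586, 1, [107, 111, 0, 4, 0, 4], [1, 127, 1]⟩))
  (.node 1
  (.leaf ⟨1171222961687404609, 2, 9369774905037987905, 2287542701920337, 2, [143], [134, 1]⟩)
  (.node 1
  (.leaf ⟨1171222961687404610, 1, 9369774905037987906, 1171221863129748488, 4, [4, 147, 1, 8], [1]⟩)
  (.leaf ⟨1171222961687404610, 0, 146402870210925578, 18300358776365697, 2, [0, 8], [1]⟩))))))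

/-- All steps. -/
def tree : Tree :=
  t0

theorem steps_ok : checkTo rs ss tree 39 = true := by decide +kernel

/-- A derived word. -/
def target0 : List ℕ :=
  [0, 1, 2, 0, 1, 2, 0, 1, 2, 0, 1, 2, 0, 1, 2, 0, 1, 2, 0, 1, 2, 0, 1, 2, 0, 1, 2, 0, 1, 2]

theorem goal0 : goalOK tree 39 [0, 4, 8, 15, 19, 1, 51, 1, 99, 114, 4, 8, 0, 4, 8, 155, 150, 1, 1, 1, 139, 130, 1, 1, 0, 4, 46, 1, 10, 6] target0 = true := by decide +kernel

theorem mem0 {G : Type*} [Group G] {g : ℕ → G} {H : Subgroup G}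
    (hinv : ∀ x, x < 8 → g x * g x = 1) (hrel : ∀ w ∈ rs, prodw g w = 1)
    (hsub : ∀ w ∈ ss, prodw g w ∈ H) : prodw g target0 ∈ H :=
  mem_of_check hinv hrel hsub (checkTo_spec _ steps_ok) goal0

/-- A derived word. -/
def target1 : List ℕ :=
  [0, 1, 2, 0, 1, 2, 0, 1, 2, 0, 1, 2, 0, 1, 2, 0, 1, 2, 1, 0, 2, 1, 0, 2, 1, 0, 2, 1, 0, 2, 1, 0, 1, 0]

theorem goal1 : goalOK tree 39 [0, 4, 8, 15, 19, 1, 51, 1, 99, 114, 4, 8, 0, 4, 8, 155, 150, 1, 4, 134, 1, 1, 127, 102, 4, 58, 8, 26, 22, 1, 1, 1, 1, 1] target1 = true := by decide +kernel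

theorem mem1 {G : Type*} [Group G] {g : ℕ → G} {H : Subgroup G}
    (hinv : ∀ x, x < 8 → g x * g x = 1) (hrel : ∀ w ∈ rs, prodw g w = 1)
    (hsub : ∀ w ∈ ss, prodw g w ∈ H) : prodw g target1 ∈ H :=
  mem_of_check hinv hrel hsub (checkTo_spec _ steps_ok) goal1

end CfsgLib.SuzRecognition.Cert.Cox
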