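import Cfsg.Agent.SuzRecognition.Rotation

/-!
# The candidates for six of the generators, inside the centralizer of `z`
-/

set_option autoImplicit false
set_option linter.style.haveILetI false
set_option linter.unusedSectionVars false

namespace CfsgLib.SuzRecognition

open CfsgLib.SuzType

/-- Elements of `C(z)` from which the seven generators are built, with two elements of order
three centralising `d` and `e`. -/
structure Config {G : Type*} [Group G] (z e d f g c r₁ r₂ : G) : Prop where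
  ee : e * e = 1
  dd : d * d = 1
  de : (d * e) ^ 3 = 1
  dne : d ≠ e
  ez : e * z = z * e
  dz : d * z = z * d
  ff : f * f = 1
  gg : g * g = 1
  cc : c * c = 1
  fz : f * z = z * f
  gz : g * z = z * g
  cz : c * z = z * c
  fg2 : (f * g) ^ 2 = z
  cf : c * f = f * c
  cg : c * g = g * c
  ce : c * e = e * c
  fe : f * e = e * f
  ge : g * e = e * g
  fd : f * d = d * f
  gd : g * d = d * g
  cd4 : (c * d) ^ 4 = z
  f_cl : IsConj z f
  g_cl : IsConj z g
  c_cl : IsConj z c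
  c_not : c ∉ Subgroup.closure ({f, g} : Set G)
  r1cube : r₁ * r₁ * r₁ = 1
  r1z : r₁ * z * r₁⁻¹ = f
  r1f : r₁ * f * r₁⁻¹ = z * f
  r1e : r₁ * e = e * r₁
  r1d : r₁ * d = d * r₁
  r2cube : r₂ * r₂ * r₂ = 1
  r2z : r₂ * z * r₂⁻¹ = g
  r2g : r₂ * g * r₂⁻¹ = z * g
  r2e : r₂ * e = e * r₂
  r2d : r₂ * d = d * r₂

/-- Transport along an isomorphism fixing `z`. -/
theorem Config.map {G : Type*} [Group G] {z e d f g c r₁ r₂ : G} (h : Config z e d f g c r₁ r₂)
    (φ : G ≃* G) (hφ : φ z = z) :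
    Config z (φ e) (φ d) (φ f) (φ g) (φ c) (φ r₁) (φ r₂) := by
  have hc : ∀ {x : G}, IsConj z x → IsConj z (φ x) := fun {x} hx => by
    have := φ.toMonoidHom.map_isConj hx
    simpa [hφ] using this
  exact
  { ee := by simpa using congrArg φ h.ee
    dd := by simpa using congrArg φ h.dd
    de := by simpa using congrArg φ h.de
    dne := fun e' => h.dne (φ.injective e')
    ez := by simpa [hφ] using congrArg φ h.ez
    dz := by simpa [hφ] using congrArg φ h.dz
    ff := by simpa using congrArg φ h.ff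
    gg := by simpa using congrArg φ h.gg
    cc := by simpa using congrArg φ h.cc
    fz := by simpa [hφ] using congrArg φ h.fz
    gz := by simpa [hφ] using congrArg φ h.gz
    cz := by simpa [hφ] using congrArg φ h.cz
    fg2 := by simpa [hφ] using congrArg φ h.fg2
    cf := by simpa using congrArg φ h.cf
    cg := by simpa using congrArg φ h.cg
    ce := by simpa using congrArg φ h.ce
    fe := by simpa using congrArg φ h.fe
    ge := by simpa using congrArg φ h.ge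
    fd := by simpa using congrArg φ h.fd
    gd := by simpa using congrArg φ h.gd
    cd4 := by simpa [hφ] using congrArg φ h.cd4
    f_cl := hc h.f_cl
    g_cl := hc h.g_cl
    c_cl := hc h.c_cl
    c_not := fun hm => h.c_not (by
      have h' : φ c ∈ (Subgroup.closure ({f, g} : Set G)).map φ.toMonoidHom := by
        rwa [MonoidHom.map_closure, Set.image_pair]
      obtain ⟨x, hx, hxc⟩ := h'
      rwa [φ.injective hxc] at hx)
    r1cube := by simpa using congrArg φ h.r1cube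
    r1z := by simpa [hφ] using congrArg φ h.r1z
    r1f := by simpa [hφ] using congrArg φ h.r1f
    r1e := by simpa using congrArg φ h.r1e
    r1d := by simpa using congrArg φ h.r1d
    r2cube := by simpa using congrArg φ h.r2cube
    r2z := by simpa [hφ] using congrArg φ h.r2z
    r2g := by simpa [hφ] using congrArg φ h.r2g
    r2e := by simpa using congrArg φ h.r2e
    r2d := by simpa using congrArg φ h.r2d }

theorem e_facts : pr (12, 16) (sig (mk6 20)) + mk6 20 = mk6 44 ∧ q6 (mk6 44) = false ∧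
    b6 (mk6 44) s0 = false ∧ mk6 44 ≠ 0 ∧ b6 (mk6 44) (pr (12, 16) (mk6 44)) = true ∧
    q6 (pr (12, 16) (sig (mk6 4)) + mk6 4) = true ∧ b6 s0 (mk6 16) = false ∧
    b6 (mk6 44) (mk6 16) = true ∧ sig (mk6 4) = mk6 4 ∧ sig (mk6 12) = mk6 12 ∧
    mk6 2 + s0 + mk6 12 = mk6 15 ∧ pr (12, 16) (mk6 2) = mk6 2 := by
  decide +kernel

/-- The two possible coordinates of `g`, with the pair exchanging them with `s0`. -/
def gCases : List (V6 × (ℕ × ℕ)) := [(mk6 2, (3, 12)), (mk6 15, (14, 12))]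

theorem gCases_facts : ∀ c ∈ gCases, q6 c.1 = false ∧ c.1 ≠ 0 ∧ sig c.1 = c.1 ∧
    b6 s0 c.1 = true ∧ b6 c.1 (mk6 16) = false ∧ b6 (mk6 44) c.1 = false ∧
    okPair c.2 = true ∧ pr c.2 s0 = c.1 ∧ pr c.2 c.1 = s0 ∧
    (∀ v : V6, pr c.2 (pr c.2 v) = v) ∧
    (∀ v : V6, pr c.2 (pr (12, 16) (pr c.2 v)) = pr (12, 16) v) ∧
    (∀ v : V6, pr c.2 (sig (pr c.2 v)) = sig v) ∧
    (∀ v : V6, sig v = v → pr (12, 16) v = v → b6 v s0 = false → b6 v c.1 = false →
      v = 0 ∨ v = mk6 12) := by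
  decide +kernel

end CfsgLib.SuzRecognition

namespace CfsgLib.SuzType

open CfsgLib.SuzRecognition

namespace Data

variable {G : Type*} [Group G] [Finite G] {z : G} {Q : Subgroup G} {π : G → V6} (D : Data z Q π)
include D

/-- The commutator of an involution of `C(z)` with an element of `Q`. -/
theorem comm_lift {x q : G} (hx : x * z = z * x) (h2 : x * x = 1) (hq : q ∈ Q) :
    x * q * x * q⁻¹ ∈ Q ∧ π (x * q * x * q⁻¹) = D.act x (π q) + π q ∧
      x * (x * q * x * q⁻¹) * x = (x * q * x * q⁻¹)⁻¹ := by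
  have hxi : x⁻¹ = x := inv_eq_of_mul_eq_one_right h2
  have hm : x * q * x⁻¹ ∈ Q := D.sub.conj_mem hx hq
  refine ⟨by rw [hxi] at hm; exact mul_mem hm (inv_mem hq), ?_, ?_⟩
  · rw [D.act_π hx hq, ← D.π_inv hq, ← D.map_mul _ hm _ (inv_mem hq), hxi]
  · simp only [mul_inv_rev, inv_inv, hxi]
    rw [show x * (x * q * x * q⁻¹) * x = x * x * q * x * q⁻¹ * x by group, h2, one_mul]
    group

theorem eq_inv_of_singular {a : G} (ha : a ∈ Q) (h : q6 (π a) = false) : a⁻¹ = a :=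
  inv_eq_of_mul_eq_one_right ((D.sq a ha).2 h)

theorem inv_of_nonsingular {a : G} (ha : a ∈ Q) (h : q6 (π a) = true) :
    a⁻¹ = z * a ∧ a * a = z := by
  have hz : a * a = z := (D.sub.sq_eq ha).resolve_left fun e => by
    rw [(D.sq a ha).1 e] at h; exact Bool.noConfusion h
  refine ⟨inv_eq_of_mul_eq_one_right ?_, hz⟩
  rw [← D.Q_comm ha |> fun e => show a * z = z * a from e, ← mul_assoc, hz, D.sub.mul_self]

/-- Conjugate involutions in a common coset of `Q` differ by a commutator with `Q`. -/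
theorem commute_of_conj_commute {d d1 u : G} (hu : u ∈ Q) (h1 : u * d = d * u)
    (h2 : u * d1 = d1 * u) (hk : d * d1 ∈ Q) : b6 (π (d * d1)) (π u) = false :=
  (D.commute_iff hk hu).1 (Commute.mul_left h1.symm h2.symm).eq

end Data

namespace Four

variable {G : Type*} [Group G] [Finite G] {z s θ t : G} {Q P : Subgroup G} {π : G → V6}
  (T : Four z Q π P s θ t)
include T

/-- A configuration with `e` an anisotropic involution. -/
theorem exists_config_raw : ∃ e d f g c r₁ r₂, Config z e d f g c r₁ r₂ ∧ ¬ IsConj z e := by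
  have F := T.frame
  have D := T.frame.data
  obtain ⟨y, ρ, hyz, hys, hyy, hyθ, hyact, hρ3, hρz, hρs, hρθ, hρy⟩ := T.exists_pair
  obtain ⟨ef1, ef2, ef3, ef4, ef5, ef6, ef7, ef8, ef9, ef10, ef11, ef12⟩ := e_facts
  have hyi : y⁻¹ = y := inv_eq_of_mul_eq_one_right hyy
  have hzz := D.sub.mul_self
  obtain ⟨e, he⟩ : ∃ e, e = y * θ := ⟨_, rfl⟩
  have hee : e * e = 1 := by
    rw [he, show y * θ * (y * θ) = y * θ * y * θ by group]
    rw [hyi] at hyθ
    rw [hyθ, T.θ_cube]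
  have hez : e * z = z * e := he ▸ (Commute.mul_left hyz T.θ_comm_z).eq
  have hes : e * s = s * e := he ▸ (Commute.mul_left hys T.θ_comm_s).eq
  have heact : ∀ v, D.act e v = pr (12, 16) (sig v) := fun v => by
    rw [he, D.act_mul hyz T.θ_comm_z, hyact, T.θ_act_sig]
  have hne : ¬ IsConj z e := F.not_isConj_of_moved hez hee (v := mk6 4) (by rw [heact]; exact ef6)
  have hde : y * e = θ := by rw [he, ← mul_assoc, hyy, one_mul]
  -- `c`
  obtain ⟨q20, hq20, hπ20⟩ := D.surj (mk6 20)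
  obtain ⟨c, hc⟩ : ∃ c, c = e * q20 * e * q20⁻¹ := ⟨_, rfl⟩
  obtain ⟨hcQ, hcπ, hcinv⟩ := D.comm_lift hez hee hq20
  rw [← hc] at hcQ hcπ hcinv
  rw [hπ20, heact, ef1] at hcπ
  have hcc : c * c = 1 := (D.sq c hcQ).2 (by rw [hcπ]; exact ef2)
  rw [D.eq_inv_of_singular hcQ (by rw [hcπ]; exact ef2)] at hcinv
  have hce : c * e = e * c := by
    calc c * e = e * c * e * e := by rw [hcinv]
      _ = e * c := by rw [mul_assoc, hee, mul_one]
  have hcs : c * s = s * c := (F.comm_s_iff hcQ).2 (by rw [hcπ]; exact ef3)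
  have hc1 : c ≠ 1 := fun h => ef4 (by rw [← hcπ, h, D.π_one])
  have hcnz : c ≠ z := fun h => ef4 (by rw [← hcπ, h, D.π_z])
  have hcd4 : (c * y) ^ 4 = z := by
    obtain ⟨c', hc'⟩ : ∃ c', c' = y * c * y⁻¹ := ⟨_, rfl⟩
    have hc'Q : c' ∈ Q := hc' ▸ D.sub.conj_mem hyz hcQ
    have hb : b6 (π c) (π c') = true := by
      rw [hc', ← D.act_π hyz hcQ, hcπ, hyact]; exact ef5
    have hnc : c * c' ≠ c' * c := fun h => by
      rw [(D.commute_iff hcQ hc'Q).1 h] at hb; exact Bool.noConfusion hb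
    have hconj := D.sub.conj_of_not_commute hcQ hc'Q hnc
    have hc'2 : c' * c' = 1 := by
      rw [hc', show y * c * y⁻¹ * (y * c * y⁻¹) = y * (c * c) * y⁻¹ by group, hcc]; group
    rw [inv_eq_of_mul_eq_one_right hcc] at hconj
    calc (c * y) ^ 4 = c * (y * c * y) * (c * (y * c * y)) := by simp [pow_succ, mul_assoc]
      _ = c * c' * c * c' := by rw [hc', hyi]; simp [mul_assoc]
      _ = z := by rw [hconj, mul_assoc, hc'2, mul_one]
  -- the coordinates of `g`
  obtain ⟨g0, vg, hg0Q, hg0π, hg0d, hcase⟩ : ∃ g0 vg, g0 ∈ Q ∧ π g0 = vg ∧ g0 * y = y * g0 ∧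
      ∃ p, (vg, p) ∈ gCases := by
    obtain ⟨q2, hq2, hπ2⟩ := D.surj (mk6 2)
    obtain ⟨q4, hq4, hπ4⟩ := D.surj (mk6 4)
    obtain ⟨haQ, haπ, hainv⟩ := D.comm_lift hyz hyy hq4
    obtain ⟨a, ha⟩ : ∃ a, a = y * q4 * y * q4⁻¹ := ⟨_, rfl⟩
    rw [← ha] at haQ haπ hainv
    rw [hπ4, hyact, moved_vec.1] at haπ
    rw [(D.inv_of_nonsingular haQ (by rw [haπ]; exact moved_vec.2.1)).1] at hainv
    have hπc : π (y * q2 * y⁻¹) = π q2 := by rw [← D.act_π hyz hq2, hπ2, hyact, ef12]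
    rcases D.eq_or_eq_of_π_eq hq2 (D.sub.conj_mem hyz hq2) hπc.symm with h | h
    · exact ⟨q2, mk6 2, hq2, hπ2, (mul_inv_eq_iff_eq_mul.1 h).symm, (3, 12), by simp [gCases]⟩
    · refine ⟨q2 * s * a, mk6 15, mul_mem (mul_mem hq2 F.pair.mem) haQ, ?_, ?_, (14, 12),
        by simp [gCases]⟩
      · rw [D.map_mul _ (mul_mem hq2 F.pair.mem) _ haQ, D.map_mul _ hq2 _ F.pair.mem, hπ2, F.π_s,
          haπ, ef11]
      · refine (mul_inv_eq_iff_eq_mul.1 ?_).symm
        rw [show y * (q2 * s * a) * y⁻¹ = y * q2 * y⁻¹ * (y * s * y⁻¹) * (y * a * y⁻¹) by group, h,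
          mul_inv_eq_iff_eq_mul.2 hys, hyi, hainv,
          show z * q2 * s * (z * a) = z * (q2 * s * z) * a by group,
          show q2 * s * z = z * (q2 * s) from (Commute.mul_left (D.Q_comm hq2) F.s_comm).eq,
          ← mul_assoc z, hzz, one_mul]
  obtain ⟨p, hp⟩ := hcase
  obtain ⟨g1, g2, g3, g4, g5, g6, g7, g8, g9, g10, g11, g12, g13⟩ := gCases_facts _ hp
  simp only at g1 g2 g3 g4 g5 g6 g7 g8 g9 g10 g11 g12 g13
  -- an element fixing `θ` and `y` and mapping `s` to a lift of `vg`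
  obtain ⟨h0, h0z, h0act⟩ := D.exists_pr g7
  have h0zi : h0⁻¹ * z = z * h0⁻¹ := (Commute.inv_left h0z).eq
  have h0acti : ∀ v, D.act h0⁻¹ v = pr p v := fun v => by
    have := D.act_inv_apply h0z (pr p v)
    rwa [h0act, g10] at this
  obtain ⟨b, hb⟩ : ∃ b, b = h0 * θ * h0⁻¹ := ⟨_, rfl⟩
  have hbz : b * z = z * b := hb ▸ (Commute.mul_left (Commute.mul_left h0z T.θ_comm_z) h0zi).eq
  have hbact : ∀ v, D.act b v = sig v := fun v => by
    rw [hb, D.act_mul (Commute.mul_left h0z T.θ_comm_z).eq h0zi, D.act_mul h0z T.θ_comm_z, h0acti,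
      h0act, T.θ_act_sig, g12]
  obtain ⟨q, hq, hqe⟩ := exists_conj_of_cube D.Q_isPGroup (a := θ) (b := b) T.θ_cube
    (by rw [hb, show h0 * θ * h0⁻¹ * (h0 * θ * h0⁻¹) * (h0 * θ * h0⁻¹) =
      h0 * (θ * θ * θ) * h0⁻¹ by group, T.θ_cube]; group)
    (fun x hx => D.sub.conj_mem T.θ_comm_z hx)
    (D.mem_of_act (Commute.mul_left T.θ_comm_z (Commute.inv_left hbz).eq).eq fun v => by
      rw [D.act_mul T.θ_comm_z (Commute.inv_left hbz).eq, T.θ_act_sig, ← hbact,
        ← D.act_mul hbz (Commute.inv_left hbz).eq, mul_inv_cancel, D.act_one])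
  obtain ⟨h1, hh1⟩ : ∃ h1, h1 = q * h0 := ⟨_, rfl⟩
  have h1z : h1 * z = z * h1 := hh1 ▸ (Commute.mul_left (D.Q_comm hq) h0z).eq
  have h1act : ∀ v, D.act h1 v = pr p v := fun v => by
    rw [hh1, D.act_mul (D.Q_comm hq) h0z, D.act_of_mem hq, h0act]
  have h1θ : h1 * θ * h1⁻¹ = θ := by
    conv_rhs => rw [← hqe, hb]
    rw [hh1]; group
  obtain ⟨d1, hd1⟩ : ∃ d1, d1 = h1 * y * h1⁻¹ := ⟨_, rfl⟩
  have h1zi : h1⁻¹ * z = z * h1⁻¹ := (Commute.inv_left h1z).eq
  have h1acti : ∀ v, D.act h1⁻¹ v = pr p v := fun v => by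
    have := D.act_inv_apply h1z (pr p v)
    rwa [h1act, g10] at this
  have hd1z : d1 * z = z * d1 := hd1 ▸ (Commute.mul_left (Commute.mul_left h1z hyz) h1zi).eq
  have hd12 : d1 * d1 = 1 := by
    rw [hd1, show h1 * y * h1⁻¹ * (h1 * y * h1⁻¹) = h1 * (y * y) * h1⁻¹ by group, hyy]; group
  have h1θ' : h1⁻¹ * θ * h1 = θ := by
    conv_lhs => rw [← h1θ]
    group
  have hd1θ : d1 * θ * d1⁻¹ = θ * θ := by
    rw [hd1, show h1 * y * h1⁻¹ * θ * (h1 * y * h1⁻¹)⁻¹ = h1 * (y * (h1⁻¹ * θ * h1) * y⁻¹) * h1⁻¹ by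
      group, h1θ', hyθ,
      show h1 * (θ * θ) * h1⁻¹ = h1 * θ * h1⁻¹ * (h1 * θ * h1⁻¹) by group, h1θ]
  have hk : y * d1 ∈ Q := D.mem_of_act (Commute.mul_left hyz hd1z).eq fun v => by
    rw [hd1, D.act_mul hyz (hd1 ▸ hd1z), D.act_mul (Commute.mul_left h1z hyz).eq h1zi,
      D.act_mul h1z hyz, hyact, hyact, h1act, h1acti, g11, n_facts.2.2.1]
  have hkθ : θ * (y * d1) = y * d1 * θ := by
    refine (mul_inv_eq_iff_eq_mul.1 ?_).symm
    rw [show y * d1 * θ * (y * d1)⁻¹ = y * (d1 * θ * d1⁻¹) * y⁻¹ by group, hd1θ,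
      show y * (θ * θ) * y⁻¹ = y * θ * y⁻¹ * (y * θ * y⁻¹) by group, hyθ,
      show θ * θ * (θ * θ) = θ * θ * θ * θ by group, T.θ_cube, one_mul]
  have hg0θ := T.θ_lift hg0Q (by rw [hg0π, g3])
  have hv : π (y * d1) = 0 ∨ π (y * d1) = mk6 12 := by
    refine g13 _ ?_ ?_ ?_ ?_
    · rw [← T.θ_act_sig, D.act_π T.θ_comm_z hk, mul_inv_eq_iff_eq_mul.2 hkθ]
    · rw [← hyact, D.act_π hyz hk, show y * (y * d1) * y⁻¹ = d1 * y by
        rw [hyi, ← mul_assoc, hyy, one_mul], ← D.π_inv hk, mul_inv_rev, hyi,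
        inv_eq_of_mul_eq_one_right hd12]
    · rw [← F.π_s]
      refine D.commute_of_conj_commute F.pair.mem hys.symm ?_ hk
      have hm : h1 * g0 * h1⁻¹ ∈ Q := D.sub.conj_mem h1z hg0Q
      have hc' := (Commute.conj_iff h1).2 (show Commute g0 y from hg0d)
      rw [← hd1] at hc'
      have hπ : π s = π (h1 * g0 * h1⁻¹) := by
        rw [← D.act_π h1z hg0Q, hg0π, h1act, g9, F.π_s]
      rcases D.eq_or_eq_of_π_eq F.pair.mem hm hπ with r | r <;> rw [r] at hc'
      · exact hc'.eq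
      · have h := (show Commute z d1 from hd1z.symm).mul_left hc'
        rwa [← mul_assoc, hzz, one_mul] at h
    · rw [← hg0π]
      refine D.commute_of_conj_commute hg0Q hg0d ?_ hk
      have hm : h1 * s * h1⁻¹ ∈ Q := D.sub.conj_mem h1z F.pair.mem
      have hc' := (Commute.conj_iff h1).2 (show Commute s y from hys.symm)
      rw [← hd1] at hc'
      have hπ : π g0 = π (h1 * s * h1⁻¹) := by
        rw [← D.act_π h1z F.pair.mem, F.π_s, h1act, g8, hg0π]
      rcases D.eq_or_eq_of_π_eq hg0Q hm hπ with r | r <;> rw [r] at hc'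
      · exact hc'.eq
      · have h := (show Commute z d1 from hd1z.symm).mul_left hc'
        rwa [← mul_assoc, hzz, one_mul] at h
  obtain ⟨r, hrQ, hrθ, hrk⟩ : ∃ r ∈ Q, θ * r = r * θ ∧ y * r * y * r⁻¹ = y * d1 := by
    obtain ⟨r4, hr4, hπr4⟩ := D.surj (mk6 4)
    obtain ⟨haQ, haπ, hainv⟩ := D.comm_lift hyz hyy hr4
    obtain ⟨a, ha⟩ : ∃ a, a = y * r4 * y * r4⁻¹ := ⟨_, rfl⟩
    rw [← ha] at haQ haπ hainv
    rw [hπr4, hyact, moved_vec.1] at haπ
    obtain ⟨hai, haa⟩ := D.inv_of_nonsingular haQ (by rw [haπ]; exact moved_vec.2.1)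
    rw [hai] at hainv
    have hr4θ := T.θ_lift hr4 (by rw [hπr4, ef9])
    have haθ := T.θ_lift haQ (by rw [haπ, ef10])
    have haz : y * a * y * a⁻¹ = z := by rw [hainv, mul_inv_cancel_right]
    rcases hv with hv | hv
    · rcases (D.ker _ hk).1 hv with r' | r'
      · exact ⟨1, one_mem _, by simp, by rw [r', mul_one, inv_one, mul_one, hyy]⟩
      · exact ⟨a, haQ, haθ, by rw [r', haz]⟩
    · rcases D.eq_or_eq_of_π_eq haQ hk (haπ.trans hv.symm) with r' | r'
      · exact ⟨r4, hr4, hr4θ, by rw [r', ha]⟩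
      · refine ⟨r4 * a, mul_mem hr4 haQ, (Commute.mul_right hr4θ haθ).eq, ?_⟩
        rw [r', show y * (r4 * a) * y * (r4 * a)⁻¹ = y * r4 * y⁻¹ * (y * a * y * a⁻¹) * r4⁻¹ by group,
          haz, hyi, mul_assoc (y * r4 * y), ← (Commute.inv_left (D.Q_comm hr4)).eq, ← mul_assoc,
          ← ha, D.Q_comm haQ]
  have hrd : r * y * r⁻¹ = d1 := by
    calc r * y * r⁻¹ = y * (y * r * y * r⁻¹) := by
          rw [show y * (y * r * y * r⁻¹) = y * y * (r * y * r⁻¹) by group, hyy, one_mul]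
      _ = d1 := by rw [hrk, ← mul_assoc, hyy, one_mul]
  obtain ⟨h, hh⟩ : ∃ h, h = r⁻¹ * h1 := ⟨_, rfl⟩
  have hhz : h * z = z * h := hh ▸ (Commute.mul_left (Commute.inv_left (D.Q_comm hrQ)) h1z).eq
  have hhzc : h * z * h⁻¹ = z := mul_inv_eq_iff_eq_mul.2 hhz
  have hhy : h * y * h⁻¹ = y := by
    rw [hh, show r⁻¹ * h1 * y * (r⁻¹ * h1)⁻¹ = r⁻¹ * (h1 * y * h1⁻¹) * r by group, ← hd1, ← hrd]
    group
  have hhθ : h * θ * h⁻¹ = θ := by
    rw [hh, show r⁻¹ * h1 * θ * (r⁻¹ * h1)⁻¹ = r⁻¹ * (h1 * θ * h1⁻¹) * r by group, h1θ, mul_assoc,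
      hrθ, inv_mul_cancel_left]
  have hhe : h * e * h⁻¹ = e := by
    rw [he, show h * (y * θ) * h⁻¹ = h * y * h⁻¹ * (h * θ * h⁻¹) by group, hhy, hhθ]
  obtain ⟨g, hg⟩ : ∃ g, g = h * s * h⁻¹ := ⟨_, rfl⟩
  have hgQ : g ∈ Q := hg ▸ D.sub.conj_mem hhz F.pair.mem
  have hgπ : π g = vg := by
    rw [hg, ← D.act_π hhz F.pair.mem, F.π_s, hh,
      D.act_mul (Commute.inv_left (D.Q_comm hrQ)).eq h1z, h1act, g8, D.act_of_mem (inv_mem hrQ)]
  have hgg : g * g = 1 := (D.sq g hgQ).2 (by rw [hgπ]; exact g1)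
  have hsg : (s * g) ^ 2 = z := by
    have hnc : s * g ≠ g * s := fun hh' => by
      have := (D.commute_iff F.pair.mem hgQ).1 hh'
      rw [F.π_s, hgπ, g4] at this; exact Bool.noConfusion this
    have hconj := D.sub.conj_of_not_commute F.pair.mem hgQ hnc
    rw [inv_eq_of_mul_eq_one_right F.s_mul_self] at hconj
    rw [sq, ← mul_assoc, hconj, mul_assoc, hgg, mul_one]
  have hcg : c * g = g * c := (D.commute_iff hcQ hgQ).2 (by rw [hcπ, hgπ]; exact g6)
  have hgd : g * y = y * g := by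
    have := (Commute.conj_iff h).2 (show Commute s y from hys.symm)
    rw [hhy, ← hg] at this; exact this.eq
  have hge : g * e = e * g := by
    have := (Commute.conj_iff h).2 (show Commute s e from hes.symm)
    rw [hhe, ← hg] at this; exact this.eq
  have hg1 : g ≠ 1 := fun hh' => g2 (by rw [← hgπ, hh', D.π_one])
  have hgnz : g ≠ z := fun hh' => g2 (by rw [← hgπ, hh', D.π_z])
  have hρe : ρ * e = e * ρ := he ▸ (Commute.mul_right hρy hρθ).eq
  obtain ⟨q16, hq16, hπ16⟩ := D.surj (mk6 16)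
  refine ⟨e, y, s, g, c, ρ, h * ρ * h⁻¹,
    { ee := hee
      dd := hyy
      de := ?_
      dne := ?_
      ez := hez
      dz := hyz
      ff := F.s_mul_self
      gg := hgg
      cc := hcc
      fz := F.s_comm
      gz := D.Q_comm hgQ
      cz := D.Q_comm hcQ
      fg2 := hsg
      cf := hcs
      cg := hcg
      ce := hce
      fe := hes.symm
      ge := hge
      fd := hys.symm
      gd := hgd
      cd4 := hcd4
      f_cl := F.isConj_z_s
      g_cl := F.isConj_of_mem hgQ hgg hg1 hgnz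
      c_cl := F.isConj_of_mem hcQ hcc hc1 hcnz
      c_not := ?_
      r1cube := hρ3
      r1z := hρz
      r1f := hρs
      r1e := hρe
      r1d := hρy
      r2cube := ?_
      r2z := ?_
      r2g := ?_
      r2e := ?_
      r2d := ?_ }, hne⟩
  · rw [hde]; simp [pow_succ, T.θ_cube]
  · intro hh'
    refine T.θ_ne_one ?_
    rw [← hde, ← hh', hyy]
  · intro hm
    have hle : Subgroup.closure ({s, g} : Set G) ≤ Subgroup.centralizer ({q16} : Set G) := by
      rw [Subgroup.closure_le]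
      intro x hx
      rw [SetLike.mem_coe, Subgroup.mem_centralizer_singleton_iff]
      rcases hx with rfl | rfl
      · exact (D.commute_iff F.pair.mem hq16).2 (by rw [F.π_s, hπ16]; exact ef7)
      · exact (D.commute_iff hgQ hq16).2 (by rw [hgπ, hπ16]; exact g5)
    have hcomm := (D.commute_iff hcQ hq16).1 (Subgroup.mem_centralizer_singleton_iff.1 (hle hm))
    rw [hcπ, hπ16, ef8] at hcomm
    exact Bool.noConfusion hcomm
  · rw [show h * ρ * h⁻¹ * (h * ρ * h⁻¹) * (h * ρ * h⁻¹) = h * (ρ * ρ * ρ) * h⁻¹ by group, hρ3]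
    group
  · rw [show h * ρ * h⁻¹ * z * (h * ρ * h⁻¹)⁻¹ = h * (ρ * (h⁻¹ * z * h) * ρ⁻¹) * h⁻¹ by group,
      show h⁻¹ * z * h = z by rw [mul_assoc, ← hhz, inv_mul_cancel_left], hρz, hg]
  · rw [hg, show h * ρ * h⁻¹ * (h * s * h⁻¹) * (h * ρ * h⁻¹)⁻¹ = h * (ρ * s * ρ⁻¹) * h⁻¹ by group,
      hρs, show h * (z * s) * h⁻¹ = h * z * h⁻¹ * (h * s * h⁻¹) by group, hhzc]
  · have := (Commute.conj_iff h).2 (show Commute ρ e from hρe)
    rw [hhe] at this; exact this.eq
  · have := (Commute.conj_iff h).2 (show Commute ρ y from hρy)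
    rw [hhy] at this; exact this.eq

/-- A configuration with `e = t`. -/
theorem exists_config : ∃ d f g c r₁ r₂, Config z t d f g c r₁ r₂ := by
  obtain ⟨e, d, f, g, c, r₁, r₂, h, hne⟩ := T.exists_config_raw
  have he1 : e ≠ 1 := fun e' => by
    have h3 := h.de
    rw [e', mul_one, pow_succ, pow_two, h.dd, one_mul] at h3
    exact h.dne (h3.trans e'.symm)
  obtain ⟨k, hk, hke⟩ := T.frame.exists_conj_t T.cl h.ez h.ee he1 hne
  have hm := h.map (MulAut.conj k⁻¹) (by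
    rw [MulAut.conj_apply, inv_inv, mul_assoc, ← hk, inv_mul_cancel_left])
  have ht : MulAut.conj k⁻¹ e = t := by rw [MulAut.conj_apply, ← hke]; group
  rw [ht] at hm
  exact ⟨_, _, _, _, _, _, hm⟩

end Four

end CfsgLib.SuzType
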