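import Cfsg.Agent.SuzRecognition.ModelCodes

/-!
The generator lemma of the recognition of the Suzuki group: a finite statement about `PSL(3,4)`.
-/

set_option autoImplicit false
set_option maxRecDepth 100000

namespace CfsgLib.SuzRecognition

open Matrix CfsgLib.Linear CfsgLib.PSLThreeFour
open Cfsg.Agent.S3157 (Uni)

/-- The hypotheses. -/
structure ModelHyp {L : Type*} [Group L] (z f g c r1 r2 : L) : Prop where
  hz : (f * g) ^ 2 = z
  hz1 : z ≠ 1
  hz2 : z * z = 1
  hf : f * f = 1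
  hg : g * g = 1
  hc : c * c = 1
  hcf : c * f = f * c
  hcg : c * g = g * c
  hcD : c ∉ Subgroup.closure ({f, g} : Set L)
  h1z : r1 * z * r1⁻¹ = f
  h1f : r1 * f * r1⁻¹ = z * f
  h2z : r2 * z * r2⁻¹ = g
  h2g : r2 * g * r2⁻¹ = z * g

/-- The eight relations and generation. -/
def GoodB {L : Type*} [Group L] (z f g c b : L) : Prop :=
  b * b = 1 ∧ (b * c) ^ 3 = 1 ∧ (b * f) ^ 3 = 1 ∧ (b * g) ^ 3 = 1 ∧ (z * b) ^ 5 = 1 ∧
    (z * b * c * f) ^ 5 = 1 ∧ (z * b * c * g) ^ 5 = 1 ∧ (b * f * g) ^ 5 = 1 ∧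
    Subgroup.closure ({b, c, f, g} : Set L) = ⊤

/-- The conclusion. -/
def ModelConcl {L : Type*} [Group L] (z f g c r1 r2 : L) : Prop :=
  (∃ x ∈ Subgroup.closure ({f, g, r1, r2} : Set L), orderOf x = 7) ∨
    ∃ b ∈ Subgroup.closure ({f, g, r1, r2} : Set L), GoodB z f g c b

section transport

variable {L L' : Type*} [Group L] [Group L'] (e : L ≃* L') {z f g c r1 r2 : L}

theorem ModelHyp.map (h : ModelHyp z f g c r1 r2) :
    ModelHyp (e z) (e f) (e g) (e c) (e r1) (e r2) where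
  hz := by rw [← map_mul, ← map_pow, h.hz]
  hz1 := fun he => h.hz1 (e.injective (he.trans (map_one e).symm))
  hz2 := by rw [← map_mul, h.hz2, map_one]
  hf := by rw [← map_mul, h.hf, map_one]
  hg := by rw [← map_mul, h.hg, map_one]
  hc := by rw [← map_mul, h.hc, map_one]
  hcf := by rw [← map_mul, ← map_mul, h.hcf]
  hcg := by rw [← map_mul, ← map_mul, h.hcg]
  hcD := fun hm => h.hcD (by
    have e1 : Subgroup.closure ({e f, e g} : Set L') =
        (Subgroup.closure ({f, g} : Set L)).map e.toMonoidHom := by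
      rw [MonoidHom.map_closure]; simp [Set.image_pair]
    rw [e1] at hm
    obtain ⟨y, hy, hye⟩ := hm
    rwa [← e.injective (hye : e y = e c)])
  h1z := by rw [← map_inv, ← map_mul, ← map_mul, h.h1z]
  h1f := by rw [← map_inv, ← map_mul, ← map_mul, h.h1f, map_mul]
  h2z := by rw [← map_inv, ← map_mul, ← map_mul, h.h2z]
  h2g := by rw [← map_inv, ← map_mul, ← map_mul, h.h2g, map_mul]

theorem concl_of_map (h : ModelConcl (e z) (e f) (e g) (e c) (e r1) (e r2)) :
    ModelConcl z f g c r1 r2 := by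
  have hcl : ∀ S : Set L, Subgroup.closure (e '' S) = (Subgroup.closure S).map e.toMonoidHom :=
    fun S => (MonoidHom.map_closure e.toMonoidHom S).symm
  have himg : ({e f, e g, e r1, e r2} : Set L') = e '' {f, g, r1, r2} := by
    simp [Set.image_insert_eq]
  rcases h with ⟨x, hx, ho⟩ | ⟨b, hb, hgood⟩
  · rw [himg, hcl] at hx
    obtain ⟨y, hy, rfl⟩ := hx
    exact Or.inl ⟨y, hy, (e.orderOf_eq y).symm.trans ho⟩
  · rw [himg, hcl] at hb
    obtain ⟨y, hy, rfl⟩ := hb
    obtain ⟨h1, h2, h3, h4, h5, h6, h7, h8, h9⟩ := hgood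
    have key : ∀ {a : L}, e a = 1 → a = 1 := fun he => e.injective (he.trans (map_one e).symm)
    refine Or.inr ⟨y, hy, key ?_, key ?_, key ?_, key ?_, key ?_, key ?_, key ?_, key ?_, ?_⟩
    · rw [map_mul]; exact h1
    · rw [map_pow, map_mul]; exact h2
    · rw [map_pow, map_mul]; exact h3
    · rw [map_pow, map_mul]; exact h4
    · rw [map_pow, map_mul]; exact h5
    · rw [map_pow, map_mul, map_mul, map_mul]; exact h6
    · rw [map_pow, map_mul, map_mul, map_mul]; exact h7
    · rw [map_pow, map_mul, map_mul]; exact h8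
    · have h9' : Subgroup.closure (e '' ({y, c, f, g} : Set L)) = ⊤ := by
        rw [show (e '' ({y, c, f, g} : Set L)) = {e y, e c, e f, e g} by simp [Set.image_insert_eq]]
        exact h9
      rw [hcl] at h9'
      exact Subgroup.map_injective e.injective (h9'.trans
        (Subgroup.map_top_of_surjective e.toMonoidHom e.surjective).symm)

theorem ModelHyp.swap (h : ModelHyp z f g c r1 r2) : ModelHyp z g f c r2 r1 where
  hz := by
    have hzi : z⁻¹ = z := inv_eq_of_mul_eq_one_right h.hz2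
    rw [show g * f = (f * g)⁻¹ by
      rw [_root_.mul_inv_rev, inv_eq_of_mul_eq_one_right h.hf, inv_eq_of_mul_eq_one_right h.hg],
      inv_pow, h.hz, hzi]
  hz1 := h.hz1
  hz2 := h.hz2
  hf := h.hg
  hg := h.hf
  hc := h.hc
  hcf := h.hcg
  hcg := h.hcf
  hcD := by rw [Set.pair_comm]; exact h.hcD
  h1z := h.h2z
  h1f := h.h2g
  h2z := h.h1z
  h2g := h.h1f

theorem concl_swap (hyp : ModelHyp z f g c r1 r2) (h : ModelConcl z g f c r2 r1) :
    ModelConcl z f g c r1 r2 := by
  have hset : ({g, f, r2, r1} : Set L) = {f, g, r1, r2} := by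
    ext a; simp only [Set.mem_insert_iff, Set.mem_singleton_iff]; tauto
  have hset2 : ∀ b : L, ({b, c, g, f} : Set L) = {b, c, f, g} := fun b => by
    ext a; simp only [Set.mem_insert_iff, Set.mem_singleton_iff]; tauto
  rcases h with ⟨x, hx, ho⟩ | ⟨b, hb, h1, h2, h3, h4, h5, h6, h7, h8, h9⟩
  · exact Or.inl ⟨x, hset ▸ hx, ho⟩
  · refine Or.inr ⟨b, hset ▸ hb, h1, h2, h4, h3, h5, h7, h6, ?_, hset2 b ▸ h9⟩
    have e : b * f * g = b * (b * g * f)⁻¹ * b⁻¹ := by
      rw [_root_.mul_inv_rev, _root_.mul_inv_rev, inv_eq_of_mul_eq_one_right h1,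
        inv_eq_of_mul_eq_one_right hyp.hf, inv_eq_of_mul_eq_one_right hyp.hg]
      simp only [mul_assoc, h1, mul_one]
    rw [e, conj_pow, inv_pow, h8, inv_one, mul_one, mul_inv_cancel]

end transport

end CfsgLib.SuzRecognition
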