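import Cfsg.Agent.SuzRecognition.ModelData
import Cfsg.Agent.PSLThreeFour.Parabolic
import Cfsg.Agent.Linear.Perfect

/-!
Elements of `PSL(3,4)` as lists of nine digits, and the finite check behind the generator lemma.
-/

set_option autoImplicit false
set_option maxRecDepth 100000

namespace CfsgLib.SuzRecognition

open Matrix CfsgLib.Linear CfsgLib.PSLThreeFour
open Cfsg.Agent.S3157 (Uni)

/-- The field elements `0, 1, w, w + 1`. -/
def fe : ℕ → GF4
  | 0 => 0
  | 1 => ⟨1, 0⟩
  | 2 => ⟨0, 1⟩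
  | 3 => ⟨1, 1⟩
  | _ => 0

/-- Addition of digits. -/
def addD (a b : ℕ) : ℕ :=
  ([[0, 1, 2, 3], [1, 0, 3, 2], [2, 3, 0, 1], [3, 2, 1, 0]].getD a []).getD b 0

/-- Multiplication of digits. -/
def mulD (a b : ℕ) : ℕ :=
  ([[0, 0, 0, 0], [0, 1, 2, 3], [0, 2, 3, 1], [0, 3, 1, 2]].getD a []).getD b 0

theorem fe_ops : ∀ a : Fin 4, ∀ b : Fin 4,
    fe (addD a b) = fe a + fe b ∧ addD a b < 4 ∧ fe (mulD a b) = fe a * fe b ∧ mulD a b < 4 := by
  decide +kernel

theorem fe_add {a b : ℕ} (ha : a < 4) (hb : b < 4) : fe (addD a b) = fe a + fe b :=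
  (fe_ops ⟨a, ha⟩ ⟨b, hb⟩).1

theorem addD_lt {a b : ℕ} (ha : a < 4) (hb : b < 4) : addD a b < 4 := (fe_ops ⟨a, ha⟩ ⟨b, hb⟩).2.1

theorem fe_mul {a b : ℕ} (ha : a < 4) (hb : b < 4) : fe (mulD a b) = fe a * fe b :=
  (fe_ops ⟨a, ha⟩ ⟨b, hb⟩).2.2.1

theorem mulD_lt {a b : ℕ} (ha : a < 4) (hb : b < 4) : mulD a b < 4 :=
  (fe_ops ⟨a, ha⟩ ⟨b, hb⟩).2.2.2

/-- A matrix code: nine digits, row by row. -/
structure Code where
  d : List ℕ

/-- The matrix of a code. -/
def toM (A : Code) : Matrix (Fin 3) (Fin 3) GF4 :=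
  Matrix.of fun i j => fe (A.d.getD (3 * i.val + j.val) 0)

/-- All digits are digits. -/
def Ok (A : Code) : Prop := ∀ k, A.d.getD k 0 < 4

theorem ok_of_all {A : Code} (h : A.d.all (fun a => Nat.blt a 4) = true) : Ok A := by
  intro k
  by_cases hk : k < A.d.length
  · rw [List.getD_eq_getElem _ _ hk]
    simpa using List.all_eq_true.1 h _ (List.getElem_mem hk)
  · rw [List.getD_eq_default _ _ (by omega)]; norm_num

/-- An entry of a product. -/
def dot (A B : Code) (i j : ℕ) : ℕ :=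
  addD (addD (mulD (A.d.getD (3 * i) 0) (B.d.getD j 0))
    (mulD (A.d.getD (3 * i + 1) 0) (B.d.getD (3 + j) 0)))
    (mulD (A.d.getD (3 * i + 2) 0) (B.d.getD (6 + j) 0))

/-- The product. -/
def mulC (A B : Code) : Code :=
  ⟨[dot A B 0 0, dot A B 0 1, dot A B 0 2, dot A B 1 0, dot A B 1 1, dot A B 1 2,
    dot A B 2 0, dot A B 2 1, dot A B 2 2]⟩

theorem dot_lt {A B : Code} (hA : Ok A) (hB : Ok B) (i j : ℕ) : dot A B i j < 4 :=
  addD_lt (addD_lt (mulD_lt (hA _) (hB _)) (mulD_lt (hA _) (hB _))) (mulD_lt (hA _) (hB _))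

theorem ok_mulC {A B : Code} (hA : Ok A) (hB : Ok B) : Ok (mulC A B) := by
  refine ok_of_all (List.all_eq_true.2 fun a ha => ?_)
  simp only [mulC, List.mem_cons, List.not_mem_nil, or_false] at ha
  rcases ha with rfl | rfl | rfl | rfl | rfl | rfl | rfl | rfl | rfl <;>
    simpa using dot_lt hA hB _ _

theorem fe_dot {A B : Code} (hA : Ok A) (hB : Ok B) (i j : Fin 3) :
    fe (dot A B i j) = (toM A * toM B) i j := by
  rw [dot, fe_add (addD_lt (mulD_lt (hA _) (hB _)) (mulD_lt (hA _) (hB _))) (mulD_lt (hA _) (hB _)),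
    fe_add (mulD_lt (hA _) (hB _)) (mulD_lt (hA _) (hB _)), fe_mul (hA _) (hB _), fe_mul (hA _) (hB _),
    fe_mul (hA _) (hB _), Matrix.mul_apply, Fin.sum_univ_three]
  simp [toM]

theorem toM_mulC {A B : Code} (hA : Ok A) (hB : Ok B) : toM (mulC A B) = toM A * toM B := by
  refine Matrix.ext fun i j => ?_
  rw [← fe_dot hA hB]
  fin_cases i <;> fin_cases j <;> rfl

/-- The identity. -/
def oneC : Code := ⟨[1, 0, 0, 0, 1, 0, 0, 0, 1]⟩

theorem toM_oneC : toM oneC = 1 := by decide +kernel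

/-- An element with a code. -/
def Rep (x : L34) (A : Code) : Prop :=
  Ok A ∧ ∃ X : SL34, proj X = x ∧ ∃ r : GF4, r ≠ 0 ∧ X.1 = r • toM A

theorem Rep.one : Rep 1 oneC :=
  ⟨ok_of_all (by decide), 1, map_one _, 1, one_ne_zero, by rw [toM_oneC, one_smul]; rfl⟩

theorem Rep.mul {x y : L34} {A B : Code} (hx : Rep x A) (hy : Rep y B) : Rep (x * y) (mulC A B) := by
  obtain ⟨hA, X, rfl, r, hr, hX⟩ := hx
  obtain ⟨hB, Y, rfl, s, hs, hY⟩ := hy
  refine ⟨ok_mulC hA hB, X * Y, map_mul _ _ _, r * s, mul_ne_zero hr hs, ?_⟩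
  rw [toM_mulC hA hB, Matrix.SpecialLinearGroup.coe_mul, hX, hY, Matrix.smul_mul, Matrix.mul_smul,
    smul_smul]

/-- A word evaluated on codes. -/
def evalC (gs : List Code) (w : List ℕ) : Code :=
  w.foldr (fun k A => mulC (gs.getD k oneC) A) oneC

/-- A word evaluated on elements. -/
noncomputable def evalW (xs : List L34) (w : List ℕ) : L34 :=
  w.foldr (fun k a => xs.getD k 1 * a) 1

theorem rep_eval {xs : List L34} {gs : List Code}
    (h : ∀ k, Rep (xs.getD k 1) (gs.getD k oneC)) : ∀ w, Rep (evalW xs w) (evalC gs w)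
  | [] => Rep.one
  | k :: w => (h k).mul (rep_eval h w)

theorem evalW_mem {xs : List L34} {H : Subgroup L34} (h : ∀ x ∈ xs, x ∈ H) :
    ∀ w, evalW xs w ∈ H
  | [] => one_mem _
  | k :: w => by
    refine mul_mem ?_ (evalW_mem h w)
    by_cases hk : k < xs.length
    · rw [List.getD_eq_getElem _ _ hk]; exact h _ (List.getElem_mem hk)
    · rw [List.getD_eq_default _ _ (by omega)]; exact one_mem _

/-- The codes agree up to a scalar. -/
def sameC (A B : Code) : Bool :=
  [1, 2, 3].any fun s => (List.range 9).all fun k =>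
    Nat.beq (A.d.getD k 0) (mulD s (B.d.getD k 0))

theorem rep_unique {x y : L34} {A B : Code} (hx : Rep x A) (hy : Rep y B) (h : sameC A B = true) :
    x = y := by
  obtain ⟨hA, X, rfl, r, hr, hX⟩ := hx
  obtain ⟨hB, Y, rfl, t, ht, hY⟩ := hy
  obtain ⟨s, hs, hall⟩ := List.any_eq_true.1 h
  have hs4 : s < 4 := by simp at hs; omega
  have e : toM A = fe s • toM B := by
    refine Matrix.ext fun i j => ?_
    have := Nat.eq_of_beq_eq_true (List.all_eq_true.1 hall (3 * i.val + j.val)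
      (List.mem_range.2 (by omega)))
    show fe (A.d.getD _ 0) = fe s * fe (B.d.getD _ 0)
    rw [this, fe_mul hs4 (hB _)]
  refine proj_eq_of_smul (r := r * fe s * t⁻¹) ?_
  rw [hX, hY, e, smul_smul, smul_smul, mul_assoc (r * fe s), inv_mul_cancel₀ ht, mul_one]

theorem rep_one_ne {x : L34} {A : Code} (hx : Rep x A)
    (h : ((List.range 9).any fun k => (Nat.beq (k % 4) 0 && Nat.beq (A.d.getD k 0) 0) ||
      (!Nat.beq (k % 4) 0 && !Nat.beq (A.d.getD k 0) 0)) = true) : x ≠ 1 := by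
  rintro rfl
  obtain ⟨hA, X, hX1, r, hr, hX⟩ := hx
  obtain ⟨s, hs⟩ := exists_scalar (g := X) (h := 1) (hX1.trans (map_one _).symm)
  rw [hX, Matrix.SpecialLinearGroup.coe_one] at hs
  have hs0 : s ≠ 0 := by
    rintro rfl
    have h00 : X.1 = 0 := by rw [hX, hs, zero_smul]
    have := X.2
    rw [h00, Matrix.det_zero] at this
    exact zero_ne_one this
  obtain ⟨k, hk, hc⟩ := List.any_eq_true.1 h
  rw [List.mem_range] at hk
  have e : fe (A.d.getD k 0) = r⁻¹ * (if k % 4 = 0 then s else 0) := by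
    have := congrFun (congrFun hs ⟨k / 3, by omega⟩) ⟨k % 3, by omega⟩
    simp only [Matrix.smul_apply, Matrix.one_apply, toM, Matrix.of_apply, smul_eq_mul,
      Nat.div_add_mod, mul_ite, mul_one, mul_zero, Fin.mk.injEq] at this
    rw [show (if k / 3 = k % 3 then s else 0) = if k % 4 = 0 then s else 0 from by
      interval_cases k <;> simp] at this
    rw [← this, ← mul_assoc, inv_mul_cancel₀ hr, one_mul]
  have hz : ∀ a : Fin 4, fe a = 0 → a.val = 0 := by decide +kernel
  simp only [Bool.or_eq_true, Bool.and_eq_true, Bool.not_eq_true'] at hc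
  rcases hc with ⟨h1, h2⟩ | ⟨h1, h2⟩
  · rw [if_pos (Nat.eq_of_beq_eq_true h1), Nat.eq_of_beq_eq_true h2] at e
    exact mul_ne_zero (inv_ne_zero hr) hs0 e.symm
  · rw [if_neg (fun h => by rw [h] at h1; cases h1), mul_zero] at e
    have := hz ⟨_, hA k⟩ e
    simp only at this
    rw [this] at h2
    cases h2

/-! ### Generation -/

/-- The code of an elementary transvection. -/
def trC (i j t : ℕ) : Code :=
  ⟨(List.range 9).map fun k => bif Nat.beq k (3 * i + j) then t else bif Nat.beq (k % 4) 0 then 1 else 0⟩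

/-- The twelve targets. -/
def targets : List (ℕ × ℕ × ℕ) :=
  [(0, 1, 1), (0, 1, 2), (0, 2, 1), (0, 2, 2), (1, 0, 1), (1, 0, 2), (1, 2, 1), (1, 2, 2),
    (2, 0, 1), (2, 0, 2), (2, 1, 1), (2, 1, 2)]

theorem toM_trC : ∀ i j : Fin 3, i ≠ j → ∀ t : Fin 4,
    toM (trC i j t) = Matrix.transvection i j (fe t) ∧ (trC i j t).d.all (fun a => Nat.blt a 4) = true := by
  decide +kernel

/-- The words give the twelve targets. -/
def genOK (gs : List Code) (ws : List (List ℕ)) : Bool :=
  (List.range 12).all fun n =>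
    sameC (evalC gs (ws.getD n []))
      (trC (targets.getD n (0, 0, 0)).1 (targets.getD n (0, 0, 0)).2.1 (targets.getD n (0, 0, 0)).2.2)

/-- An elementary transvection in the special linear group. -/
def tv (i j : Fin 3) (hij : i ≠ j) (c : GF4) : SL34 :=
  ⟨Matrix.transvection i j c, Matrix.det_transvection_of_ne i j hij c⟩

theorem eq_top_of_genOK {xs : List L34} {gs : List Code} {ws : List (List ℕ)}
    (hrep : ∀ k, Rep (xs.getD k 1) (gs.getD k oneC)) (h : genOK gs ws = true) {H : Subgroup L34}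
    (hH : ∀ x ∈ xs, x ∈ H) : H = ⊤ := by
  have hpre : ∀ (i j : Fin 3) (hij : i ≠ j) (t : Fin 4), (i.val, j.val, t.val) ∈ targets →
      proj (tv i j hij (fe t)) ∈ H := by
    intro i j hij t ht
    obtain ⟨n, hn, he⟩ := List.getElem_of_mem ht
    have hn' : n < 12 := hn
    have hc := List.all_eq_true.1 h n (List.mem_range.2 hn')
    rw [show targets.getD n (0, 0, 0) = (i.val, j.val, t.val) from
      (List.getD_eq_getElem _ _ hn).trans he] at hc
    obtain ⟨e1, e2⟩ := toM_trC i j hij t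
    have hR : Rep (proj (tv i j hij (fe t)))
        (trC i j t) := ⟨ok_of_all e2, _, rfl, 1, one_ne_zero, by rw [one_smul, e1]; rfl⟩
    rw [← rep_unique (rep_eval hrep (ws.getD n [])) hR hc]
    exact evalW_mem hH _
  have hall : H.comap proj = ⊤ := by
    refine CfsgLib.Linear.sl_eq_top_of_transvections fun i j hij c => ?_
    have hadd : ∀ a b : GF4, tv i j hij (a + b) = tv i j hij a * tv i j hij b := fun a b =>
      Subtype.ext (Matrix.transvection_mul_transvection_same i j hij a b).symm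
    have hmem : ∀ i j : Fin 3, i ≠ j →
        (i.val, j.val, (1 : ℕ)) ∈ targets ∧ (i.val, j.val, (2 : ℕ)) ∈ targets := by
      intro i j h
      fin_cases i <;> fin_cases j <;> simp [targets] at h ⊢
    have h1 := hpre i j hij 1 (hmem i j hij).1
    have h2 := hpre i j hij 2 (hmem i j hij).2
    show proj (tv i j hij c) ∈ H
    have hc : c = 0 ∨ c = fe (1 : Fin 4).val ∨ c = fe (2 : Fin 4).val ∨
        c = fe (1 : Fin 4).val + fe (2 : Fin 4).val := by
      revert c; decide +kernel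
    rcases hc with rfl | rfl | rfl | rfl
    · rw [show tv i j hij 0 = 1 from
        Subtype.ext (Matrix.transvection_zero i j), map_one]
      exact one_mem _
    · exact h1
    · exact h2
    · rw [hadd, map_mul]; exact mul_mem h1 h2
  refine eq_top_iff.2 fun x _ => ?_
  obtain ⟨X, rfl⟩ := proj_surjective x
  exact Subgroup.mem_comap.1 (hall ▸ Subgroup.mem_top X)

/-! ### The cases -/

/-- The code of `z`. -/
def zC : Code := ⟨[1, 0, 1, 0, 1, 0, 0, 0, 1]⟩

/-- The code of `f`. -/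
def fC : Code := ⟨[1, 1, 0, 0, 1, 0, 0, 0, 1]⟩

/-- The code of `g`. -/
def gC : Code := ⟨[1, 0, 0, 0, 1, 1, 0, 0, 1]⟩

/-- The code of `c`. -/
def cC (t : ℕ) : Code := ⟨[1, 0, t, 0, 1, 0, 0, 0, 1]⟩

/-- The code of `r₁`. -/
def r1C (x y : ℕ) : Code := ⟨[1, x, y, 0, 0, 1, 0, 1, 1]⟩

/-- The code of `r₂`. -/
def r2C (x y : ℕ) : Code := ⟨[0, 1, x, 1, 1, y, 0, 0, 1]⟩

/-- The four generators of a case. -/
def gsC (i j : ℕ) : List Code :=
  [fC, gC, r1C (i / 4) (i % 4), r2C (j / 4) (j % 4)]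

/-- Order dividing a number. -/
def powC (A : Code) : ℕ → Code
  | 0 => oneC
  | n + 1 => mulC (powC A n) A

theorem rep_pow {x : L34} {A : Code} (hx : Rep x A) : ∀ n : ℕ, Rep (x ^ n) (powC A n)
  | 0 => by rw [pow_zero]; exact Rep.one
  | n + 1 => by rw [pow_succ]; exact (rep_pow hx n).mul hx

/-- The check of one case. -/
def caseOK (t i j : ℕ) : Bool :=
  (fun e : List ℕ × ℕ => (fun b : Code =>
    bif Nat.beq e.2 0 then
      sameC (powC b 7) oneC && ((List.range 9).any fun k =>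
        (Nat.beq (k % 4) 0 && Nat.beq (b.d.getD k 0) 0) ||
          (!Nat.beq (k % 4) 0 && !Nat.beq (b.d.getD k 0) 0))
    else
      sameC (powC b 2) oneC && sameC (powC (mulC b (cC t)) 3) oneC &&
        sameC (powC (mulC b fC) 3) oneC && sameC (powC (mulC b gC) 3) oneC &&
        sameC (powC (mulC zC b) 5) oneC && sameC (powC (mulC (mulC (mulC zC b) (cC t)) fC) 5) oneC &&
        sameC (powC (mulC (mulC (mulC zC b) (cC t)) gC) 5) oneC &&
        sameC (powC (mulC (mulC b fC) gC) 5) oneC &&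
        genOK [b, cC t, fC, gC] (ModelData.gens.getD (e.2 - 1) []))
    (evalC (gsC i j) e.1)) (ModelData.cases.getD (256 * (t - 2) + 16 * i + j) ([], 0))

theorem all_cases_two : (List.range 16).all (fun i => (List.range 16).all fun j => caseOK 2 i j) = true := by
  decide +kernel

theorem all_cases_three : (List.range 16).all (fun i => (List.range 16).all fun j => caseOK 3 i j) = true := by
  decide +kernel

end CfsgLib.SuzRecognition
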