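import Mathlib.Data.Nat.Basic

set_option autoImplicit false

/-!
Certificates for the generator lemma in `PSL(3,4)` (generated).
-/

namespace CfsgLib.SuzRecognition.ModelData

/-- For each case: a word in `f, g, r₁, r₂` and `0` if it has order 7, else one plus the number of its generation certificate. -/
def cases : List (List ℕ × ℕ) := [
  ([0, 2, 3], 0),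
  ([2, 3], 0),
  ([0, 2, 3], 0),
  ([0, 2, 3], 0),
  ([2, 3], 0),
  ([0, 2, 3], 0),
  ([2, 3], 0),
  ([2, 3], 0),
  ([0, 3, 2], 0),
  ([2, 3], 0),
  ([0, 3, 2, 3, 1, 2], 1),
  ([0, 3, 2, 0, 3, 2], 1),
  ([0, 3, 2], 0),
  ([2, 3], 0),
  ([0, 3, 2, 3, 2, 0], 3),
  ([0, 1, 2, 3, 2, 3], 1),
  ([2, 3], 0),
  ([0, 2, 3], 0),
  ([2, 3], 0),
  ([2, 3], 0),
  ([0, 2, 3], 0),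
  ([2, 3], 0),
  ([0, 2, 3], 0),
  ([0, 2, 3], 0),
  ([0, 3, 2], 0),
  ([2, 3], 0),
  ([0, 3, 2, 3, 2, 0], 1),
  ([0, 1, 2, 3, 2, 3], 1),
  ([0, 3, 2], 0),
  ([2, 3], 0),
  ([0, 3, 2, 3, 1, 2], 3),
  ([0, 3, 2, 0, 3, 2], 3),
  ([0, 3, 2], 0),
  ([2, 3], 0),
  ([2, 2, 3], 0),
  ([0, 2, 3, 2], 0),
  ([0, 3, 2], 0),
  ([2, 3], 0),
  ([0, 2, 3, 2], 0),
  ([2, 2, 3], 0),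
  ([0, 2, 3], 0),
  ([2, 3], 0),
  ([0, 2, 3], 0),
  ([0, 2, 3], 0),
  ([2, 3], 0),
  ([0, 2, 3], 0),
  ([2, 3], 0),
  ([2, 3], 0),
  ([0, 3, 2], 0),
  ([2, 3], 0),
  ([0, 2, 3, 2], 0),
  ([2, 2, 3], 0),
  ([0, 3, 2], 0),
  ([2, 3], 0),
  ([2, 2, 3], 0),
  ([0, 2, 3, 2], 0),
  ([2, 3], 0),
  ([0, 2, 3], 0),
  ([2, 3], 0),
  ([2, 3], 0),
  ([0, 2, 3], 0),
  ([2, 3], 0),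
  ([0, 2, 3], 0),
  ([0, 2, 3], 0),
  ([0, 2, 3], 0),
  ([2, 3], 0),
  ([2, 3], 0),
  ([2, 3], 0),
  ([2, 3], 0),
  ([0, 2, 3], 0),
  ([0, 2, 3], 0),
  ([0, 2, 3], 0),
  ([2, 3], 0),
  ([0, 3, 2], 0),
  ([0, 1, 2, 3, 2, 3], 3),
  ([0, 3, 2, 3, 2, 0], 1),
  ([2, 3], 0),
  ([0, 3, 2], 0),
  ([0, 3, 2, 0, 3, 2], 3),
  ([0, 3, 2, 3, 1, 2], 3),
  ([2, 3], 0),
  ([0, 2, 3], 0),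
  ([0, 2, 3], 0),
  ([0, 2, 3], 0),
  ([0, 2, 3], 0),
  ([2, 3], 0),
  ([2, 3], 0),
  ([2, 3], 0),
  ([2, 3], 0),
  ([0, 3, 2], 0),
  ([0, 3, 2, 0, 3, 2], 1),
  ([0, 3, 2, 3, 1, 2], 1),
  ([2, 3], 0),
  ([0, 3, 2], 0),
  ([0, 1, 2, 3, 2, 3], 3),
  ([0, 3, 2, 3, 2, 0], 3),
  ([2, 3], 0),
  ([0, 3, 2], 0),
  ([2, 2, 3], 0),
  ([0, 2, 3, 2], 0),
  ([2, 3], 0),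
  ([0, 3, 2], 0),
  ([0, 2, 3, 2], 0),
  ([2, 2, 3], 0),
  ([0, 2, 3], 0),
  ([2, 3], 0),
  ([2, 3], 0),
  ([2, 3], 0),
  ([2, 3], 0),
  ([0, 2, 3], 0),
  ([0, 2, 3], 0),
  ([0, 2, 3], 0),
  ([2, 3], 0),
  ([0, 3, 2], 0),
  ([0, 2, 3, 2], 0),
  ([2, 2, 3], 0),
  ([2, 3], 0),
  ([0, 3, 2], 0),
  ([2, 2, 3], 0),
  ([0, 2, 3, 2], 0),
  ([2, 3], 0),
  ([0, 2, 3], 0),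
  ([0, 2, 3], 0),
  ([0, 2, 3], 0),
  ([0, 2, 3], 0),
  ([2, 3], 0),
  ([2, 3], 0),
  ([2, 3], 0),
  ([0, 3, 2, 3, 1, 2], 2),
  ([0, 3, 2, 0, 3, 2], 2),
  ([0, 3, 2], 0),
  ([2, 3], 0),
  ([0, 3, 2, 3, 2, 0], 4),
  ([0, 1, 2, 3, 2, 3], 2),
  ([0, 3, 2], 0),
  ([2, 3], 0),
  ([0, 2, 3], 0),
  ([0, 2, 3], 0),
  ([0, 2, 3], 0),
  ([2, 3], 0),
  ([2, 3], 0),
  ([2, 3], 0),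
  ([2, 3], 0),
  ([0, 2, 3], 0),
  ([0, 3, 2, 3, 2, 0], 2),
  ([0, 1, 2, 3, 2, 3], 2),
  ([0, 3, 2], 0),
  ([2, 3], 0),
  ([0, 3, 2, 3, 1, 2], 4),
  ([0, 3, 2, 0, 3, 2], 4),
  ([0, 3, 2], 0),
  ([2, 3], 0),
  ([2, 3], 0),
  ([2, 3], 0),
  ([2, 3], 0),
  ([0, 2, 3], 0),
  ([0, 2, 3], 0),
  ([0, 2, 3], 0),
  ([0, 2, 3], 0),
  ([2, 3], 0),
  ([0, 2, 3], 0),
  ([0, 2, 3], 0),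
  ([0, 2, 3], 0),
  ([2, 3], 0),
  ([2, 3], 0),
  ([2, 3], 0),
  ([2, 3], 0),
  ([0, 2, 3], 0),
  ([2, 2, 3], 0),
  ([0, 2, 3, 2], 0),
  ([0, 3, 2], 0),
  ([2, 3], 0),
  ([0, 2, 3, 2], 0),
  ([2, 2, 3], 0),
  ([0, 3, 2], 0),
  ([2, 3], 0),
  ([2, 3], 0),
  ([2, 3], 0),
  ([2, 3], 0),
  ([0, 2, 3], 0),
  ([0, 2, 3], 0),
  ([0, 2, 3], 0),
  ([0, 2, 3], 0),
  ([2, 3], 0),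
  ([0, 2, 3, 2], 0),
  ([2, 2, 3], 0),
  ([0, 3, 2], 0),
  ([2, 3], 0),
  ([2, 2, 3], 0),
  ([0, 2, 3, 2], 0),
  ([0, 3, 2], 0),
  ([2, 3], 0),
  ([0, 1, 2, 3, 2, 3], 4),
  ([0, 3, 2, 3, 2, 0], 2),
  ([2, 3], 0),
  ([0, 3, 2], 0),
  ([0, 3, 2, 0, 3, 2], 4),
  ([0, 3, 2, 3, 1, 2], 4),
  ([2, 3], 0),
  ([0, 3, 2], 0),
  ([2, 3], 0),
  ([2, 3], 0),
  ([0, 2, 3], 0),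
  ([2, 3], 0),
  ([0, 2, 3], 0),
  ([0, 2, 3], 0),
  ([2, 3], 0),
  ([0, 2, 3], 0),
  ([0, 3, 2, 0, 3, 2], 2),
  ([0, 3, 2, 3, 1, 2], 2),
  ([2, 3], 0),
  ([0, 3, 2], 0),
  ([0, 1, 2, 3, 2, 3], 4),
  ([0, 3, 2, 3, 2, 0], 4),
  ([2, 3], 0),
  ([0, 3, 2], 0),
  ([0, 2, 3], 0),
  ([0, 2, 3], 0),
  ([2, 3], 0),
  ([0, 2, 3], 0),
  ([2, 3], 0),
  ([2, 3], 0),
  ([0, 2, 3], 0),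
  ([2, 3], 0),
  ([2, 3], 0),
  ([2, 3], 0),
  ([0, 2, 3], 0),
  ([2, 3], 0),
  ([0, 2, 3], 0),
  ([0, 2, 3], 0),
  ([2, 3], 0),
  ([0, 2, 3], 0),
  ([2, 2, 3], 0),
  ([0, 2, 3, 2], 0),
  ([2, 3], 0),
  ([0, 3, 2], 0),
  ([0, 2, 3, 2], 0),
  ([2, 2, 3], 0),
  ([2, 3], 0),
  ([0, 3, 2], 0),
  ([0, 2, 3], 0),
  ([0, 2, 3], 0),
  ([2, 3], 0),
  ([0, 2, 3], 0),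
  ([2, 3], 0),
  ([2, 3], 0),
  ([0, 2, 3], 0),
  ([2, 3], 0),
  ([0, 2, 3, 2], 0),
  ([2, 2, 3], 0),
  ([2, 3], 0),
  ([0, 3, 2], 0),
  ([2, 2, 3], 0),
  ([0, 2, 3, 2], 0),
  ([2, 3], 0),
  ([0, 3, 2], 0),
  ([0, 2, 3], 0),
  ([2, 3], 0),
  ([0, 2, 3], 0),
  ([0, 2, 3], 0),
  ([2, 3], 0),
  ([0, 2, 3], 0),
  ([2, 3], 0),
  ([2, 3], 0),
  ([0, 3, 2], 0),
  ([2, 3], 0),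
  ([0, 1, 2, 3, 2, 3], 5),
  ([0, 3, 2, 3, 2, 0], 7),
  ([0, 3, 2], 0),
  ([2, 3], 0),
  ([0, 3, 2, 0, 3, 2], 5),
  ([0, 3, 2, 3, 1, 2], 5),
  ([2, 3], 0),
  ([0, 2, 3], 0),
  ([2, 3], 0),
  ([2, 3], 0),
  ([0, 2, 3], 0),
  ([2, 3], 0),
  ([0, 2, 3], 0),
  ([0, 2, 3], 0),
  ([0, 3, 2], 0),
  ([2, 3], 0),
  ([0, 3, 2, 0, 3, 2], 7),
  ([0, 3, 2, 3, 1, 2], 7),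
  ([0, 3, 2], 0),
  ([2, 3], 0),
  ([0, 1, 2, 3, 2, 3], 5),
  ([0, 3, 2, 3, 2, 0], 5),
  ([0, 3, 2], 0),
  ([2, 3], 0),
  ([2, 2, 3], 0),
  ([0, 2, 3, 2], 0),
  ([0, 3, 2], 0),
  ([2, 3], 0),
  ([0, 2, 3, 2], 0),
  ([2, 2, 3], 0),
  ([0, 2, 3], 0),
  ([2, 3], 0),
  ([0, 2, 3], 0),
  ([0, 2, 3], 0),
  ([2, 3], 0),
  ([0, 2, 3], 0),
  ([2, 3], 0),
  ([2, 3], 0),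
  ([0, 3, 2], 0),
  ([2, 3], 0),
  ([0, 2, 3, 2], 0),
  ([2, 2, 3], 0),
  ([0, 3, 2], 0),
  ([2, 3], 0),
  ([2, 2, 3], 0),
  ([0, 2, 3, 2], 0),
  ([2, 3], 0),
  ([0, 2, 3], 0),
  ([2, 3], 0),
  ([2, 3], 0),
  ([0, 2, 3], 0),
  ([2, 3], 0),
  ([0, 2, 3], 0),
  ([0, 2, 3], 0),
  ([0, 2, 3], 0),
  ([2, 3], 0),
  ([2, 3], 0),
  ([2, 3], 0),
  ([2, 3], 0),
  ([0, 2, 3], 0),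
  ([0, 2, 3], 0),
  ([0, 2, 3], 0),
  ([2, 3], 0),
  ([0, 3, 2], 0),
  ([0, 3, 2, 3, 1, 2], 7),
  ([0, 3, 2, 0, 3, 2], 7),
  ([2, 3], 0),
  ([0, 3, 2], 0),
  ([0, 3, 2, 3, 2, 0], 5),
  ([0, 1, 2, 3, 2, 3], 7),
  ([2, 3], 0),
  ([0, 2, 3], 0),
  ([0, 2, 3], 0),
  ([0, 2, 3], 0),
  ([0, 2, 3], 0),
  ([2, 3], 0),
  ([2, 3], 0),
  ([2, 3], 0),
  ([2, 3], 0),
  ([0, 3, 2], 0),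
  ([0, 3, 2, 3, 2, 0], 7),
  ([0, 1, 2, 3, 2, 3], 7),
  ([2, 3], 0),
  ([0, 3, 2], 0),
  ([0, 3, 2, 3, 1, 2], 5),
  ([0, 3, 2, 0, 3, 2], 5),
  ([2, 3], 0),
  ([0, 3, 2], 0),
  ([2, 2, 3], 0),
  ([0, 2, 3, 2], 0),
  ([2, 3], 0),
  ([0, 3, 2], 0),
  ([0, 2, 3, 2], 0),
  ([2, 2, 3], 0),
  ([0, 2, 3], 0),
  ([2, 3], 0),
  ([2, 3], 0),
  ([2, 3], 0),
  ([2, 3], 0),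
  ([0, 2, 3], 0),
  ([0, 2, 3], 0),
  ([0, 2, 3], 0),
  ([2, 3], 0),
  ([0, 3, 2], 0),
  ([0, 2, 3, 2], 0),
  ([2, 2, 3], 0),
  ([2, 3], 0),
  ([0, 3, 2], 0),
  ([2, 2, 3], 0),
  ([0, 2, 3, 2], 0),
  ([2, 3], 0),
  ([0, 2, 3], 0),
  ([0, 2, 3], 0),
  ([0, 2, 3], 0),
  ([0, 2, 3], 0),
  ([2, 3], 0),
  ([2, 3], 0),
  ([2, 3], 0),
  ([0, 1, 2, 3, 2, 3], 8),
  ([0, 3, 2, 3, 2, 0], 6),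
  ([0, 3, 2], 0),
  ([2, 3], 0),
  ([0, 3, 2, 0, 3, 2], 8),
  ([0, 3, 2, 3, 1, 2], 8),
  ([0, 3, 2], 0),
  ([2, 3], 0),
  ([0, 2, 3], 0),
  ([0, 2, 3], 0),
  ([0, 2, 3], 0),
  ([2, 3], 0),
  ([2, 3], 0),
  ([2, 3], 0),
  ([2, 3], 0),
  ([0, 2, 3], 0),
  ([0, 3, 2, 0, 3, 2], 6),
  ([0, 3, 2, 3, 1, 2], 6),
  ([0, 3, 2], 0),
  ([2, 3], 0),
  ([0, 1, 2, 3, 2, 3], 8),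
  ([0, 3, 2, 3, 2, 0], 8),
  ([0, 3, 2], 0),
  ([2, 3], 0),
  ([2, 3], 0),
  ([2, 3], 0),
  ([2, 3], 0),
  ([0, 2, 3], 0),
  ([0, 2, 3], 0),
  ([0, 2, 3], 0),
  ([0, 2, 3], 0),
  ([2, 3], 0),
  ([0, 2, 3], 0),
  ([0, 2, 3], 0),
  ([0, 2, 3], 0),
  ([2, 3], 0),
  ([2, 3], 0),
  ([2, 3], 0),
  ([2, 3], 0),
  ([0, 2, 3], 0),
  ([2, 2, 3], 0),
  ([0, 2, 3, 2], 0),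
  ([0, 3, 2], 0),
  ([2, 3], 0),
  ([0, 2, 3, 2], 0),
  ([2, 2, 3], 0),
  ([0, 3, 2], 0),
  ([2, 3], 0),
  ([2, 3], 0),
  ([2, 3], 0),
  ([2, 3], 0),
  ([0, 2, 3], 0),
  ([0, 2, 3], 0),
  ([0, 2, 3], 0),
  ([0, 2, 3], 0),
  ([2, 3], 0),
  ([0, 2, 3, 2], 0),
  ([2, 2, 3], 0),
  ([0, 3, 2], 0),
  ([2, 3], 0),
  ([2, 2, 3], 0),
  ([0, 2, 3, 2], 0),
  ([0, 3, 2], 0),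
  ([2, 3], 0),
  ([0, 3, 2, 3, 1, 2], 6),
  ([0, 3, 2, 0, 3, 2], 6),
  ([2, 3], 0),
  ([0, 3, 2], 0),
  ([0, 3, 2, 3, 2, 0], 8),
  ([0, 1, 2, 3, 2, 3], 6),
  ([2, 3], 0),
  ([0, 3, 2], 0),
  ([2, 3], 0),
  ([2, 3], 0),
  ([0, 2, 3], 0),
  ([2, 3], 0),
  ([0, 2, 3], 0),
  ([0, 2, 3], 0),
  ([2, 3], 0),
  ([0, 2, 3], 0),
  ([0, 3, 2, 3, 2, 0], 6),
  ([0, 1, 2, 3, 2, 3], 6),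
  ([2, 3], 0),
  ([0, 3, 2], 0),
  ([0, 3, 2, 3, 1, 2], 8),
  ([0, 3, 2, 0, 3, 2], 8),
  ([2, 3], 0),
  ([0, 3, 2], 0),
  ([0, 2, 3], 0),
  ([0, 2, 3], 0),
  ([2, 3], 0),
  ([0, 2, 3], 0),
  ([2, 3], 0),
  ([2, 3], 0),
  ([0, 2, 3], 0),
  ([2, 3], 0),
  ([2, 3], 0),
  ([2, 3], 0),
  ([0, 2, 3], 0),
  ([2, 3], 0),
  ([0, 2, 3], 0),
  ([0, 2, 3], 0),
  ([2, 3], 0),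
  ([0, 2, 3], 0),
  ([2, 2, 3], 0),
  ([0, 2, 3, 2], 0),
  ([2, 3], 0),
  ([0, 3, 2], 0),
  ([0, 2, 3, 2], 0),
  ([2, 2, 3], 0),
  ([2, 3], 0),
  ([0, 3, 2], 0),
  ([0, 2, 3], 0),
  ([0, 2, 3], 0),
  ([2, 3], 0),
  ([0, 2, 3], 0),
  ([2, 3], 0),
  ([2, 3], 0),
  ([0, 2, 3], 0),
  ([2, 3], 0),
  ([0, 2, 3, 2], 0),
  ([2, 2, 3], 0),
  ([2, 3], 0),
  ([0, 3, 2], 0),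
  ([2, 2, 3], 0),
  ([0, 2, 3, 2], 0),
  ([2, 3], 0),
  ([0, 3, 2], 0)]

/-- Words in `b, c, f, g` for the twelve transvections. -/
def gens : List (List (List ℕ)) := [
  [[2],
    [0, 1, 0, 2, 0, 1, 3, 2, 3, 0, 1, 2, 0],
    [2, 3, 2, 3],
    [1],
    [1, 0, 3, 2, 0, 3, 2, 3, 0, 2, 3, 0, 1],
    [0, 1, 3, 0, 1, 2, 0, 1, 3, 0],
    [3],
    [0, 1, 0, 3, 0, 1, 2, 3, 2, 0, 1, 3, 0],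
    [0, 2, 3, 0, 1, 2, 0, 3, 2, 0],
    [0, 1, 0, 3, 0, 2, 3, 0, 1, 2, 0, 3, 2, 0, 1, 3, 0, 1],
    [0, 2, 0, 3, 0, 2, 3, 2, 0, 3, 2, 0],
    [0, 1, 2, 0, 3, 0, 1, 2, 0]],
  [[2],
    [0, 1, 0, 2, 0, 1, 3, 2, 3, 0, 1, 2, 0],
    [2, 3, 2, 3],
    [1],
    [0, 3, 2, 0, 3, 2, 3, 0, 2, 3, 0],
    [0, 1, 0, 3, 0, 1, 2, 0, 1, 3, 0, 1],
    [3],
    [0, 1, 0, 3, 0, 1, 2, 3, 2, 0, 1, 3, 0],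
    [1, 0, 2, 3, 0, 1, 2, 0, 3, 2, 0, 1],
    [0, 1, 3, 0, 2, 3, 0, 1, 2, 0, 3, 2, 0, 1, 3, 0],
    [1, 0, 2, 0, 3, 0, 2, 3, 2, 0, 3, 2, 0, 1],
    [0, 1, 0, 2, 0, 3, 0, 1, 2, 0, 1]],
  [[2],
    [0, 1, 0, 2, 0, 1, 3, 2, 3, 0, 1, 2, 0],
    [2, 3, 2, 3],
    [1],
    [1, 0, 3, 0, 2, 0, 3, 2, 3, 0, 2, 3, 0, 1],
    [0, 1, 0, 3, 0, 2, 0, 1, 3, 0, 1],
    [3],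
    [0, 1, 0, 3, 0, 1, 2, 3, 2, 0, 1, 3, 0],
    [1, 0, 3, 2, 0, 1, 3, 0, 2, 3, 0, 1],
    [0, 1, 2, 0, 3, 2, 0, 1, 3, 0, 2, 3, 0, 1, 2, 0],
    [0, 2, 3, 0, 2, 3, 2, 0, 3, 2, 0],
    [0, 1, 0, 2, 0, 1, 3, 0, 1, 2, 0, 1]],
  [[2],
    [0, 1, 0, 2, 0, 1, 3, 2, 3, 0, 1, 2, 0],
    [2, 3, 2, 3],
    [1],
    [0, 3, 0, 2, 0, 3, 2, 3, 0, 2, 3, 0],
    [0, 1, 3, 0, 2, 0, 1, 3, 0],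
    [3],
    [0, 1, 0, 3, 0, 1, 2, 3, 2, 0, 1, 3, 0],
    [0, 3, 2, 0, 1, 3, 0, 2, 3, 0],
    [0, 1, 0, 2, 0, 3, 2, 0, 1, 3, 0, 2, 3, 0, 1, 2, 0, 1],
    [1, 0, 2, 3, 0, 2, 3, 2, 0, 3, 2, 0, 1],
    [0, 1, 2, 0, 1, 3, 0, 1, 2, 0]],
  [[2],
    [0, 1, 0, 2, 0, 3, 2, 3, 0, 1, 2, 0],
    [2, 3, 2, 3],
    [1, 2, 3, 2, 3],
    [1, 0, 3, 2, 0, 3, 2, 3, 0, 2, 3, 0, 1],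
    [0, 2, 0, 3, 0, 2, 0, 1, 3, 0, 1, 2, 3, 0, 2, 3, 2],
    [3],
    [0, 1, 0, 3, 0, 2, 3, 2, 0, 1, 3, 0],
    [0, 2, 3, 0, 1, 2, 0, 3, 2, 0],
    [3, 0, 1, 2, 3, 0, 1, 2, 0, 1, 3, 2, 0, 3],
    [0, 2, 0, 3, 0, 2, 3, 2, 0, 3, 2, 0],
    [0, 2, 0, 3, 0, 1, 2, 3, 2, 0, 3, 2, 0]],
  [[2],
    [0, 1, 0, 2, 0, 3, 2, 3, 0, 1, 2, 0],
    [2, 3, 2, 3],
    [1, 2, 3, 2, 3],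
    [0, 3, 2, 0, 3, 2, 3, 0, 2, 3, 0],
    [0, 1, 3, 0, 2, 3, 0, 1, 2, 0, 3, 2, 3, 0, 2, 3, 0, 1],
    [3],
    [0, 1, 0, 3, 0, 2, 3, 2, 0, 1, 3, 0],
    [1, 0, 2, 3, 0, 1, 2, 0, 3, 2, 0, 1],
    [1, 3, 0, 1, 2, 3, 0, 1, 2, 0, 1, 3, 2, 0, 1, 3],
    [1, 0, 2, 0, 3, 0, 2, 3, 2, 0, 3, 2, 0, 1],
    [0, 2, 3, 0, 1, 2, 3, 2, 0, 3, 2, 0]],
  [[2],
    [0, 1, 0, 2, 0, 3, 2, 3, 0, 1, 2, 0],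
    [2, 3, 2, 3],
    [1, 2, 3, 2, 3],
    [1, 0, 3, 0, 2, 0, 3, 2, 3, 0, 2, 3, 0, 1],
    [0, 3, 2, 0, 1, 3, 2, 3, 0, 2, 3, 0],
    [3],
    [0, 1, 0, 3, 0, 2, 3, 2, 0, 1, 3, 0],
    [1, 0, 3, 2, 0, 1, 3, 0, 2, 3, 0, 1],
    [1, 2, 0, 1, 3, 2, 0, 1, 3, 0, 1, 2, 3, 0, 1, 2],
    [0, 2, 3, 0, 2, 3, 2, 0, 3, 2, 0],
    [0, 1, 2, 0, 3, 2, 0, 1, 3, 0, 2, 3, 2, 0, 3, 2, 0, 1]],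
  [[2],
    [0, 1, 0, 2, 0, 3, 2, 3, 0, 1, 2, 0],
    [2, 3, 2, 3],
    [1, 2, 3, 2, 3],
    [0, 3, 0, 2, 0, 3, 2, 3, 0, 2, 3, 0],
    [0, 3, 0, 2, 0, 1, 3, 2, 3, 0, 2, 3, 0],
    [3],
    [0, 1, 0, 3, 0, 2, 3, 2, 0, 1, 3, 0],
    [0, 3, 2, 0, 1, 3, 0, 2, 3, 0],
    [2, 0, 1, 3, 2, 0, 1, 3, 0, 1, 2, 3, 0, 2],
    [1, 0, 2, 3, 0, 2, 3, 2, 0, 3, 2, 0, 1],
    [0, 3, 0, 2, 0, 3, 0, 1, 2, 0, 1, 3, 2, 0, 3, 2, 3]]]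

end CfsgLib.SuzRecognition.ModelData
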