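import Cfsg.Agent.SuzType.KQuot
import Cfsg.Agent.SuzRecognition.Defs

/-!
# An element of order three cycling `z, s, z * s` centralised by an involution inverting `θ`
-/

set_option autoImplicit false
set_option linter.style.haveILetI false
set_option linter.unusedSectionVars false

namespace CfsgLib.SuzRecognition

open CfsgLib.SuzType

/-- If `a, b` have cube one and agree modulo a `2`-subgroup normalised by `a`, they are conjugate
under it. -/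
theorem exists_conj_of_cube {G : Type*} [Group G] [Finite G] {H : Subgroup G} (hH : IsPGroup 2 H)
    {a b : G} (ha : a * a * a = 1) (hb : b * b * b = 1) (hn : ∀ x ∈ H, a * x * a⁻¹ ∈ H)
    (hab : a * b⁻¹ ∈ H) : ∃ q ∈ H, q * b * q⁻¹ = a := by
  have : Fact (Nat.Prime 2) := ⟨Nat.prime_two⟩
  have hmem : ∀ q : H, a * (q : G) * b⁻¹ ∈ H := fun q => by
    have := mul_mem (hn _ q.2) hab
    rwa [show a * (q : G) * a⁻¹ * (a * b⁻¹) = a * q * b⁻¹ by group] at this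
  have hc : ¬ 3 ∣ Nat.card H := by
    obtain ⟨k, hk⟩ := IsPGroup.iff_card.1 hH
    rw [hk]
    intro h
    have := Nat.Prime.dvd_of_dvd_pow Nat.prime_three h
    omega
  obtain ⟨q, hq⟩ := SuzType.exists_fixed_of_cube (fun q : H => ⟨_, hmem q⟩) (fun q => Subtype.ext (by
    show a * (a * (a * (q : G) * b⁻¹) * b⁻¹) * b⁻¹ = q
    rw [show a * (a * (a * (q : G) * b⁻¹) * b⁻¹) * b⁻¹ = a * a * a * q * (b * b * b)⁻¹ by group,
      ha, hb]
    group)) hc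
  refine ⟨q, q.2, ?_⟩
  have e : a * (q : G) * b⁻¹ = q := congrArg Subtype.val hq
  have h : a * (q : G) = q * b := mul_inv_eq_iff_eq_mul.1 e
  rw [← h, mul_inv_cancel_right]

theorem n_facts : okPair (12, 16) = true ∧ pr (12, 16) s0 = s0 ∧
    (∀ v : V6, pr (12, 16) (pr (12, 16) v) = v) ∧
    (∀ v : V6, pr (12, 16) (sig (pr (12, 16) v)) = sig (sig v)) ∧
    (∀ v : V6, sig (sig (sig v)) = v) := by
  decide +kernel

theorem fixed_U : ∀ U : V6, InU U → sig U = U →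
    (U = 0 ∨ U = mk6 4 ∨ U = mk6 8 ∨ U = mk6 12) := by
  decide +kernel

theorem invol_U : ∀ U : V6, U ∈ [0, mk6 4, mk6 8, mk6 12] →
    (∀ v : V6, sie U (pr (12, 16) (sie U (pr (12, 16) v))) = v) → U = 0 ∨ U = mk6 12 := by
  decide +kernel

theorem conj_sie_facts : (∀ v : V6, sie 0 v = v) ∧
    (∀ v : V6, sie (mk6 4) (sie (mk6 12) (pr (12, 16) (sie (mk6 4) v))) = pr (12, 16) v) ∧
    InU (mk6 4) ∧ pU (sig (mk6 4)) = mk6 4 := by
  decide +kernel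

theorem moved_vec : pr (12, 16) (mk6 4) + mk6 4 = mk6 12 ∧ q6 (mk6 12) = true ∧
    (∀ U : V6, InU U → q6 U = false → ∀ v : V6, q6 (sie U v + v) = false) := by
  decide +kernel

end CfsgLib.SuzRecognition

namespace CfsgLib.SuzType

open CfsgLib.SuzRecognition

namespace Data

variable {G : Type*} [Group G] [Finite G] {z : G} {Q : Subgroup G} {π : G → V6} (D : Data z Q π)
include D

omit [Finite G] in
theorem Q_isPGroup : IsPGroup 2 Q := by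
  have : Fact (Nat.Prime 2) := ⟨Nat.prime_two⟩
  exact IsPGroup.of_card (n := 7) (by rw [D.card]; norm_num)

omit [Finite G] in
theorem act_inv_apply {c : G} (hc : c * z = z * c) (v : V6) : D.act c⁻¹ (D.act c v) = v := by
  rw [← D.act_mul (Commute.inv_left hc).eq hc, inv_mul_cancel, D.act_one]

end Data

namespace Frame

variable {G : Type*} [Group G] [Finite G] {z s : G} {Q P : Subgroup G} {π : G → V6}
  (F : Frame z Q π P s)
include F

/-- An involution moving a vector by a nonsingular one is not conjugate to `z`. -/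
theorem not_isConj_of_moved {x : G} (hx : x * z = z * x) (h2 : x * x = 1) {v : V6}
    (hv : q6 (F.data.act x v + v) = true) : ¬ IsConj z x := by
  intro hc
  have hxQ : x ∉ Q := fun h => by
    rw [F.data.act_of_mem h, add_self6, q6_zero] at hv
    exact Bool.noConfusion hv
  obtain ⟨c, A, U, hcz, -, hy⟩ := F.exists_conj_R hx h2 hxQ
  have hyc : IsConj x (c * x * c⁻¹) := isConj_iff.2 ⟨c, rfl⟩
  have h2' : c * x * c⁻¹ * (c * x * c⁻¹) = 1 := by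
    rw [show c * x * c⁻¹ * (c * x * c⁻¹) = c * (x * x) * c⁻¹ by group, h2]; group
  have h1' : c * x * c⁻¹ ≠ 1 := fun e => hxQ (by rw [conj_eq_one_iff.1 e]; exact one_mem _)
  have hqU := (F.isConj_z_iff hy h2' h1').1 (hc.trans hyc)
  have h := moved_vec.2.2 U hy.inU_right hqU (F.data.act c v)
  rw [← Frame.Cl.act_eq F hy, ← F.data.act_mul hy.comm_z hcz,
    show c * x * c⁻¹ * c = c * x by group, F.data.act_mul hcz hx,
    ← (F.data.act_iso hcz).add, (F.data.act_iso hcz).quad, hv] at h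
  exact Bool.noConfusion h

end Frame

namespace Four

variable {G : Type*} [Group G] [Finite G] {z s θ t : G} {Q P : Subgroup G} {π : G → V6}
  (T : Four z Q π P s θ t)
include T

theorem θ_act_sig (v : V6) : T.frame.data.act θ v = sig v := T.θ_act v

theorem θθ_act (v : V6) : T.frame.data.act (θ * θ) v = sig (sig v) := by
  rw [T.frame.data.act_mul T.θ_comm_z T.θ_comm_z, T.θ_act_sig, T.θ_act_sig]

theorem θ_lift {q : G} (hq : q ∈ Q) (hv : sig (π q) = π q) : θ * q = q * θ := by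
  have D := T.frame.data
  have h : π (θ * q * θ⁻¹) = π q := by rw [← D.act_π T.θ_comm_z hq, T.θ_act_sig, hv]
  rcases D.eq_or_eq_of_π_eq hq (D.sub.conj_mem T.θ_comm_z hq) h.symm with e | e
  · exact mul_inv_eq_iff_eq_mul.1 e
  · exact T.θ_fix (i := true) (j := false) (by rw [T.frame.zE_tf]; exact e)

theorem pow_mem {k : G} (hk : k = 1 ∨ k = θ ∨ k = θ * θ) :
    k * z = z * k ∧ k * s = s * k ∧ k * θ = θ * k ∧ k * k * k = 1 := by
  rcases hk with rfl | rfl | rfl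
  · simp
  · exact ⟨T.θ_comm_z, T.θ_comm_s, rfl, T.θ_cube⟩
  · exact ⟨(Commute.mul_left T.θ_comm_z T.θ_comm_z).eq, (Commute.mul_left T.θ_comm_s T.θ_comm_s).eq,
      by group, by
        rw [show θ * θ * (θ * θ) * (θ * θ) = θ * θ * θ * (θ * θ * θ) by group, T.θ_cube, one_mul]⟩

/-- `C(z) ∩ C(s) ∩ C(θ)` is generated by `θ` and its part centralising `t`. -/
theorem exists_decomp {w : G} (hw : w * z = z * w) (hws : w * s = s * w) (hwθ : w * θ = θ * w) :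
    ∃ k, (k = 1 ∨ k = θ ∨ k = θ * θ) ∧ k * w ∈ Subgroup.centralizer ({z, s, t} : Set G) := by
  have F := T.frame
  obtain ⟨x, hx⟩ : ∃ x, x = w * t * w⁻¹ := ⟨_, rfl⟩
  have hcl := T.cl.conjC hw hws
  rw [← hx] at hcl
  have h1c : θ * x * θ⁻¹ = w * (θ * t * θ⁻¹) * w⁻¹ := by
    rw [hx, show θ * (w * t * w⁻¹) * θ⁻¹ = θ * w * t * (θ * w)⁻¹ by group, ← hwθ]; group
  have h2c : θ * θ * x * (θ * θ)⁻¹ = w * (θ * θ * t * (θ * θ)⁻¹) * w⁻¹ := by
    rw [hx, show θ * θ * (w * t * w⁻¹) * (θ * θ)⁻¹ = θ * θ * w * t * (θ * θ * w)⁻¹ by group,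
      show θ * θ * w = w * (θ * θ) from (Commute.mul_left hwθ.symm hwθ.symm).eq]
    group
  have hrel : x * (θ * x * θ⁻¹) = θ * θ * x * (θ * θ)⁻¹ := by
    rw [h1c, h2c, ← T.rel, hx]; group
  have hxx : x * x = 1 := by
    rw [hx, show w * t * w⁻¹ * (w * t * w⁻¹) = w * (t * t) * w⁻¹ by group, T.t_sq]; group
  have hm := T.six hcl hxx (fun e => T.t_ne_one (conj_eq_one_iff.1 (hx ▸ e)))
    (fun e => T.not_isConj_z (e.trans (IsConj.symm (isConj_iff.2 ⟨w, hx.symm⟩)))) hrel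
  have hc1 := T.cl1.conjC hw hws
  rw [← h1c] at hc1
  have hU := ((T.conj_θ hcl).unique hc1).1.symm
  obtain ⟨k, i, j, hk, e⟩ := T.exists_orbit T.cl hcl six_std.1 hm (by
    rw [decide_eq_true six_std.2, decide_eq_true hU])
  obtain ⟨hkz, hks, hkθ, hk3⟩ := T.pow_mem hk
  refine ⟨k * k, ?_, ?_⟩
  · rcases hk with rfl | rfl | rfl
    · exact Or.inl (one_mul 1)
    · exact Or.inr (Or.inr rfl)
    · exact Or.inr (Or.inl (by rw [← mul_assoc, T.θ_cube, one_mul]))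
  obtain ⟨w', hw'⟩ : ∃ w', w' = k * k * w := ⟨_, rfl⟩
  have hki : k⁻¹ = k * k := inv_eq_of_mul_eq_one_right (by rw [← mul_assoc]; exact hk3)
  have hkkz : k * k * z = z * (k * k) := (Commute.mul_left hkz hkz).eq
  have hkks : k * k * s = s * (k * k) := (Commute.mul_left hks hks).eq
  have hwt : w' * t * w'⁻¹ = zE z s i j * t := by
    rw [hw', show k * k * w * t * (k * k * w)⁻¹ = k * k * (w * t * w⁻¹) * (k * k)⁻¹ by group, ← hx,
      e, show k * k * (zE z s i j * (k * t * k⁻¹)) * (k * k)⁻¹ =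
        k * k * zE z s i j * (k * k)⁻¹ * (k * k * k * t * (k * k * k)⁻¹) by group,
      F.zE_conj hkkz hkks, hk3]
    group
  have hw'θ : θ * w' = w' * θ := by
    rw [hw']; exact (Commute.mul_right (Commute.mul_right hkθ.symm hkθ.symm) hwθ.symm).eq
  have hEθ := F.zE_conj T.θ_comm_z T.θ_comm_s i j
  have r : w' * (t * (θ * t * θ⁻¹)) * w'⁻¹ = w' * (θ * θ * t * (θ * θ)⁻¹) * w'⁻¹ := by rw [T.rel]
  rw [show w' * (t * (θ * t * θ⁻¹)) * w'⁻¹ = w' * t * w'⁻¹ * (w' * θ * t * (w' * θ)⁻¹) by group,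
    ← hw'θ, show θ * w' * t * (θ * w')⁻¹ = θ * (w' * t * w'⁻¹) * θ⁻¹ by group,
    show w' * (θ * θ * t * (θ * θ)⁻¹) * w'⁻¹ = w' * (θ * θ) * t * (w' * (θ * θ))⁻¹ by group,
    show w' * (θ * θ) = θ * θ * w' from (Commute.mul_right hw'θ.symm hw'θ.symm).eq,
    show θ * θ * w' * t * (θ * θ * w')⁻¹ = θ * θ * (w' * t * w'⁻¹) * (θ * θ)⁻¹ by group, hwt,
    show θ * (zE z s i j * t) * θ⁻¹ = θ * zE z s i j * θ⁻¹ * (θ * t * θ⁻¹) by group, hEθ,
    show θ * θ * (zE z s i j * t) * (θ * θ)⁻¹ =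
      θ * (θ * zE z s i j * θ⁻¹) * θ⁻¹ * (θ * θ * t * (θ * θ)⁻¹) by group, hEθ, hEθ,
    mul_assoc, ← mul_assoc t, F.zE_comm T.cl.comm_z T.cl.comm_s i j, mul_assoc (zE z s i j) t,
    ← mul_assoc (zE z s i j) (zE z s i j), F.zE_mul_self, one_mul, T.rel] at r
  rw [mul_eq_right.1 r.symm, one_mul] at hwt
  rw [← hw']
  exact T.mem_Tgrp.2 ⟨hw' ▸ (Commute.mul_left hkkz hw).eq, hw' ▸ (Commute.mul_left hkks hws).eq,
    mul_inv_eq_iff_eq_mul.1 hwt⟩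

/-- The part of `C(z) ∩ C(s) ∩ C(θ)` centralising `t` and `ρ` is trivial. -/
theorem eq_one_of_rho {r ρ : G} (hr : r ∈ Subgroup.centralizer ({z, s, t} : Set G))
    (hrθ : r * θ = θ * r) (hρK : ρ ∈ Kgrp θ t) (hρ3 : ρ * ρ * ρ = 1) (hρz : ρ * z * ρ⁻¹ = s)
    (hrρ : r * ρ = ρ * r) : r = 1 := by
  have F := T.frame
  obtain ⟨rb, hrb⟩ : ∃ rb : Kgrp θ t ⧸ T.Vk, rb = ((⟨r, T.Tgrp_le_K hr⟩ : Kgrp θ t) : _) :=
    ⟨_, rfl⟩
  obtain ⟨pb, hpb⟩ : ∃ pb : Kgrp θ t ⧸ T.Vk, pb = ((⟨ρ, hρK⟩ : Kgrp θ t) : _) := ⟨_, rfl⟩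
  have hcomm : Commute rb pb := by
    rw [hrb, hpb, Commute, SemiconjBy, ← QuotientGroup.mk_mul, ← QuotientGroup.mk_mul]
    exact congrArg _ (Subtype.ext hrρ)
  have hp3 : pb ^ 3 = 1 := by
    rw [hpb, ← QuotientGroup.mk_pow, T.mk_eq_one, SubmonoidClass.coe_pow]
    show MemV θ t (ρ ^ 3)
    rw [show ρ ^ 3 = ρ * ρ * ρ by simp [pow_succ, mul_assoc], hρ3]
    exact T.memV_one
  have hp1 : pb ≠ 1 := fun e => by
    rw [hpb, T.mk_eq_one] at e
    have h := (MemV.comm e T.z_mem_K).symm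
    rw [mul_inv_eq_iff_eq_mul.2 h] at hρz
    exact F.zs_facts.2.2.1 hρz
  have hr1 : rb = 1 := by
    by_contra hne
    obtain ⟨k, hk⟩ := T.Tgrp_isPGroup ⟨r, hr⟩
    have hk' : rb ^ 2 ^ k = 1 := by
      have h : r ^ 2 ^ k = 1 := congrArg Subtype.val hk
      rw [hrb, ← QuotientGroup.mk_pow, T.mk_eq_one, SubmonoidClass.coe_pow]
      show MemV θ t (r ^ 2 ^ k)
      rw [h]; exact T.memV_one
    classical
    have hex : ∃ n, rb ^ 2 ^ n = 1 := ⟨k, hk'⟩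
    obtain ⟨m, hm⟩ : ∃ m, Nat.find hex = m + 1 := Nat.exists_eq_succ_of_ne_zero fun h0 => hne (by
      have := Nat.find_spec hex
      rwa [h0, pow_zero, pow_one] at this)
    obtain ⟨i, hi⟩ : ∃ i, i = rb ^ 2 ^ m := ⟨_, rfl⟩
    have hi2 : orderOf i = 2 := CfsgLib.CITGroups.orderOf_two_of_mul_self
      (by rw [hi, ← pow_add, show 2 ^ m + 2 ^ m = 2 ^ (m + 1) by rw [pow_succ]; ring, ← hm]
          exact Nat.find_spec hex)
      (by rw [hi]; exact Nat.find_min hex (by omega))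
    have hpc : pb ∈ Subgroup.centralizer ({i} : Set (Kgrp θ t ⧸ T.Vk)) :=
      Subgroup.mem_centralizer_singleton_iff.2 (hi ▸ (hcomm.symm.pow_right _).eq)
    obtain ⟨l, hl⟩ := T.isCIT_quot i hi2 ⟨pb, hpc⟩
    have hl' : pb ^ 2 ^ l = 1 := congrArg Subtype.val hl
    refine hp1 (orderOf_eq_one_iff.1 (Nat.eq_one_of_dvd_coprimes ?_ (orderOf_dvd_of_pow_eq_one hp3)
      (orderOf_dvd_of_pow_eq_one hl')))
    exact Nat.Coprime.pow_right _ (by decide)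
  rw [hrb, T.mk_eq_one] at hr1
  have hθt : ¬ θ * t * θ⁻¹ = t := fun e => by
    have h := T.cl1
    rw [e] at h
    exact a0_ne.2.2 (h.unique T.cl).1.symm
  rcases hr1 with e | e | e | e
  · exact e
  · exfalso
    rw [show (r : G) = t from e] at hrθ
    exact hθt (mul_inv_eq_iff_eq_mul.2 hrθ.symm)
  · exfalso
    rw [show (r : G) = θ * t * θ⁻¹ from e] at hrθ
    refine hθt ?_
    calc θ * t * θ⁻¹ = θ⁻¹ * (θ * (θ * t * θ⁻¹)) := by group
      _ = θ⁻¹ * (θ * t * θ⁻¹ * θ) := by rw [hrθ]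
      _ = t := by group
  · exfalso
    rw [show (r : G) = t * (θ * t * θ⁻¹) from e, T.rel] at hrθ
    refine hθt ?_
    calc θ * t * θ⁻¹ = (θ * θ)⁻¹ * (θ * (θ * θ * t * (θ * θ)⁻¹)) * (θ * θ) * θ⁻¹ := by group
      _ = (θ * θ)⁻¹ * (θ * θ * t * (θ * θ)⁻¹ * θ) * (θ * θ) * θ⁻¹ := by rw [hrθ]
      _ = t := by group

/-- An element of order three cycling `z, s, z * s`, centralising `θ` and `t`. -/
theorem exists_rho_three : ∃ ρ, ρ * ρ * ρ = 1 ∧ ρ * z * ρ⁻¹ = s ∧ ρ * s * ρ⁻¹ = z * s ∧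
    ρ * θ = θ * ρ ∧ ρ * t = t * ρ := by
  have : Fact (Nat.Prime 2) := ⟨Nat.prime_two⟩
  have F := T.frame
  obtain ⟨ρ, hρz, hρs, hρθ, hρt⟩ := T.exists_rho
  have hρzs : ρ * (z * s) * ρ⁻¹ = z := by
    rw [show ρ * (z * s) * ρ⁻¹ = ρ * z * ρ⁻¹ * (ρ * s * ρ⁻¹) by group, hρz, hρs, ← mul_assoc,
      F.s_comm, mul_assoc, F.s_mul_self, mul_one]
  have hz3 : ρ ^ 3 * z * (ρ ^ 3)⁻¹ = z := by
    rw [show ρ ^ 3 * z * (ρ ^ 3)⁻¹ = ρ * (ρ * (ρ * z * ρ⁻¹) * ρ⁻¹) * ρ⁻¹ by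
      simp [pow_succ, mul_assoc], hρz, hρs, hρzs]
  have hs3 : ρ ^ 3 * s * (ρ ^ 3)⁻¹ = s := by
    rw [show ρ ^ 3 * s * (ρ ^ 3)⁻¹ = ρ * (ρ * (ρ * s * ρ⁻¹) * ρ⁻¹) * ρ⁻¹ by
      simp [pow_succ, mul_assoc], hρs, hρzs, hρz]
  have h3T : ρ ^ 3 ∈ Subgroup.centralizer ({z, s, t} : Set G) :=
    T.mem_Tgrp.2 ⟨mul_inv_eq_iff_eq_mul.1 hz3, mul_inv_eq_iff_eq_mul.1 hs3,
      ((show Commute ρ t from hρt).pow_left 3).eq⟩
  have hfix : ρ ^ 255 * z = z * ρ ^ 255 ∧ ρ ^ 255 * s = s * ρ ^ 255 := by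
    rw [show ρ ^ 255 = (ρ ^ 3) ^ 85 by rw [← pow_mul]]
    obtain ⟨h1, h2, -⟩ := T.mem_Tgrp.1 h3T
    exact ⟨((show Commute _ z from h1).pow_left 85).eq, ((show Commute _ s from h2).pow_left 85).eq⟩
  have e256 : ρ ^ 256 = ρ * ρ ^ 255 := by rw [← pow_succ']
  refine ⟨ρ ^ 256, ?_, ?_, ?_, ((show Commute ρ θ from hρθ).pow_left _).eq,
    ((show Commute ρ t from hρt).pow_left _).eq⟩
  · have h : (⟨ρ ^ 3, h3T⟩ : Subgroup.centralizer ({z, s, t} : Set G)) ^ 256 = 1 := by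
      rw [← T.card_Tgrp]; exact pow_card_eq_one'
    have h' : (ρ ^ 3) ^ 256 = 1 := congrArg Subtype.val h
    rw [← pow_add, ← pow_add, ← h', ← pow_mul]
  · rw [e256, show ρ * ρ ^ 255 * z * (ρ * ρ ^ 255)⁻¹ = ρ * (ρ ^ 255 * z * (ρ ^ 255)⁻¹) * ρ⁻¹ by group,
      mul_inv_eq_iff_eq_mul.2 hfix.1, hρz]
  · rw [e256, show ρ * ρ ^ 255 * s * (ρ * ρ ^ 255)⁻¹ = ρ * (ρ ^ 255 * s * (ρ ^ 255)⁻¹) * ρ⁻¹ by group,
      mul_inv_eq_iff_eq_mul.2 hfix.2, hρs]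

/-- An element of `C(z) ∩ C(s)` inverting `θ` which acts as the pair `(12, 16)`. -/
theorem exists_inverting : ∃ n, n * z = z * n ∧ n * s = s * n ∧ n * θ * n⁻¹ = θ * θ ∧
    ∀ v, T.frame.data.act n v = pr (12, 16) v := by
  have F := T.frame
  have D := T.frame.data
  obtain ⟨hok, hs0, hinv, hconj, hs3⟩ := n_facts
  obtain ⟨n, hnz, hns, hn⟩ := F.exists_pr hok hs0
  have hnzi : n⁻¹ * z = z * n⁻¹ := (Commute.inv_left hnz).eq
  have hni : ∀ v, D.act n⁻¹ v = pr (12, 16) v := fun v => by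
    have := D.act_inv_apply hnz (pr (12, 16) v)
    rwa [hn, hinv] at this
  obtain ⟨a, ha⟩ : ∃ a, a = θ * θ := ⟨_, rfl⟩
  obtain ⟨haz, has, -, ha3⟩ := T.pow_mem (Or.inr (Or.inr ha))
  obtain ⟨b, hb⟩ : ∃ b, b = n * θ * n⁻¹ := ⟨_, rfl⟩
  have hbz : b * z = z * b := hb ▸ (Commute.mul_left (Commute.mul_left hnz T.θ_comm_z) hnzi).eq
  have hbs : b * s = s * b :=
    hb ▸ (Commute.mul_left (Commute.mul_left hns T.θ_comm_s) (Commute.inv_left hns).eq).eq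
  have hb3 : b * b * b = 1 := by
    rw [hb, show n * θ * n⁻¹ * (n * θ * n⁻¹) * (n * θ * n⁻¹) = n * (θ * θ * θ) * n⁻¹ by group,
      T.θ_cube]
    group
  have hbact : ∀ v, D.act b v = sig (sig v) := fun v => by
    rw [hb, D.act_mul (Commute.mul_left hnz T.θ_comm_z).eq hnzi, D.act_mul hnz T.θ_comm_z, hni, hn,
      T.θ_act_sig, hconj]
  have hH : ∀ x, x ∈ Q ⊓ Subgroup.centralizer ({s} : Set G) ↔ x ∈ Q ∧ x * s = s * x := fun x => by
    rw [Subgroup.mem_inf, Subgroup.mem_centralizer_singleton_iff]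
  obtain ⟨q, hq, hqe⟩ := exists_conj_of_cube (H := Q ⊓ Subgroup.centralizer ({s} : Set G))
    (D.Q_isPGroup.to_le inf_le_left) ha3 hb3
    (fun x hx => (hH _).2 ⟨D.sub.conj_mem haz ((hH x).1 hx).1,
      ((Commute.mul_left has ((hH x).1 hx).2).mul_left (Commute.inv_left has).eq).eq⟩)
    ((hH _).2 ⟨D.mem_of_act (Commute.mul_left haz (Commute.inv_left hbz).eq).eq fun v => by
        rw [D.act_mul haz (Commute.inv_left hbz).eq, ha, T.θθ_act]
        have := hbact (D.act b⁻¹ v)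
        rwa [← D.act_mul hbz (Commute.inv_left hbz).eq, mul_inv_cancel, D.act_one, eq_comm] at this,
      (Commute.mul_left has (Commute.inv_left hbs).eq).eq⟩)
  obtain ⟨hqQ, hqs⟩ := (hH q).1 hq
  refine ⟨q * n, (Commute.mul_left (D.Q_comm hqQ) hnz).eq, (Commute.mul_left hqs hns).eq, ?_, fun v => ?_⟩
  · rw [← ha, ← hqe, hb]; group
  · rw [D.act_mul (D.Q_comm hqQ) hnz, D.act_of_mem hqQ, hn]

/-- An element of `R` of class `(0, 4)` centralising `θ`. -/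
theorem exists_p4 : ∃ p, T.frame.Cl p 0 (mk6 4) ∧ p * θ = θ * p := by
  have F := T.frame
  have h0 : InU (0 : V6) := by decide
  obtain ⟨x, hx⟩ := F.exists_cl h0 conj_sie_facts.2.2.1
  have h' := hx.conjC T.θ_comm_z T.θ_comm_s
  rw [T.θ_act_sig, T.θ_act_sig, show pU (sig (0 : V6)) = 0 by decide, conj_sie_facts.2.2.2] at h'
  obtain ⟨i, j, e⟩ := hx.eq_zE_mul h'
  exact ⟨x, hx, (T.θ_fix e).symm⟩

/-- An involution inverting `θ` and an element of order three cycling `z, s, z * s` which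
centralises both. -/
theorem exists_pair : ∃ y ρ, y * z = z * y ∧ y * s = s * y ∧ y * y = 1 ∧ y * θ * y⁻¹ = θ * θ ∧
    (∀ v, T.frame.data.act y v = pr (12, 16) v) ∧ ρ * ρ * ρ = 1 ∧ ρ * z * ρ⁻¹ = s ∧
    ρ * s * ρ⁻¹ = z * s ∧ ρ * θ = θ * ρ ∧ ρ * y = y * ρ := by
  have F := T.frame
  have D := T.frame.data
  obtain ⟨ρ, hρ3, hρz, hρs, hρθ, hρt⟩ := T.exists_rho_three
  have hρK := T.rho_mem_K hρθ hρt
  obtain ⟨n, hnz, hns, hnθ, hnact⟩ := T.exists_inverting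
  -- the conjugate of `ρ` under `n`
  obtain ⟨ρ', hρ'⟩ : ∃ ρ', ρ' = n * ρ * n⁻¹ := ⟨_, rfl⟩
  have hzn : n⁻¹ * z * n = z := by rw [mul_assoc, ← hnz, inv_mul_cancel_left]
  have hsn : n⁻¹ * s * n = s := by rw [mul_assoc, ← hns, inv_mul_cancel_left]
  have hρ'z : ρ' * z * ρ'⁻¹ = s := by
    rw [hρ', show n * ρ * n⁻¹ * z * (n * ρ * n⁻¹)⁻¹ = n * (ρ * (n⁻¹ * z * n) * ρ⁻¹) * n⁻¹ by group,
      hzn, hρz, mul_inv_eq_iff_eq_mul.2 hns]
  have hρ's : ρ' * s * ρ'⁻¹ = z * s := by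
    rw [hρ', show n * ρ * n⁻¹ * s * (n * ρ * n⁻¹)⁻¹ = n * (ρ * (n⁻¹ * s * n) * ρ⁻¹) * n⁻¹ by group,
      hsn, hρs, mul_inv_eq_iff_eq_mul.2 (Commute.mul_right hnz hns).eq]
  have hρ'θ : ρ' * θ = θ * ρ' := by
    have h2 : (n * θ * n⁻¹) * (n * θ * n⁻¹) = θ := by
      rw [hnθ, show θ * θ * (θ * θ) = θ * θ * θ * θ by group, T.θ_cube, one_mul]
    have h := (Commute.conj_iff n).2 (show Commute ρ θ from hρθ)
    have := h.mul_right h
    rw [h2, ← hρ'] at this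
    exact this.eq
  have hρ'3 : ρ' * ρ' * ρ' = 1 := by
    rw [hρ', show n * ρ * n⁻¹ * (n * ρ * n⁻¹) * (n * ρ * n⁻¹) = n * (ρ * ρ * ρ) * n⁻¹ by group, hρ3]
    group
  -- the discrepancy
  have hρi : ρ'⁻¹ * z * ρ' = z * s ∧ ρ'⁻¹ * s * ρ' = z := by
    constructor
    · have h : ρ' * (z * s) * ρ'⁻¹ = z := by
        rw [show ρ' * (z * s) * ρ'⁻¹ = ρ' * z * ρ'⁻¹ * (ρ' * s * ρ'⁻¹) by group, hρ'z, hρ's,
          ← mul_assoc, F.s_comm, mul_assoc, F.s_mul_self, mul_one]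
      conv_lhs => rw [← h]
      group
    · conv_lhs => rw [← hρ'z]
      group
  have hwz : ρ * ρ'⁻¹ * z = z * (ρ * ρ'⁻¹) := by
    refine mul_inv_eq_iff_eq_mul.1 ?_
    rw [show ρ * ρ'⁻¹ * z * (ρ * ρ'⁻¹)⁻¹ = ρ * (ρ'⁻¹ * z * ρ') * ρ⁻¹ by group, hρi.1,
      show ρ * (z * s) * ρ⁻¹ = ρ * z * ρ⁻¹ * (ρ * s * ρ⁻¹) by group, hρz, hρs, ← mul_assoc,
      F.s_comm, mul_assoc, F.s_mul_self, mul_one]
  have hws : ρ * ρ'⁻¹ * s = s * (ρ * ρ'⁻¹) := by
    refine mul_inv_eq_iff_eq_mul.1 ?_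
    rw [show ρ * ρ'⁻¹ * s * (ρ * ρ'⁻¹)⁻¹ = ρ * (ρ'⁻¹ * s * ρ') * ρ⁻¹ by group, hρi.2, hρz]
  have hwθ : ρ * ρ'⁻¹ * θ = θ * (ρ * ρ'⁻¹) :=
    (Commute.mul_left hρθ (Commute.inv_left hρ'θ).eq).eq
  obtain ⟨k, hk, hkw⟩ := T.exists_decomp hwz hws hwθ
  obtain ⟨hkz, hks, hkθ, hk3⟩ := T.pow_mem hk
  have hρk : ρ * k = k * ρ := by
    rcases hk with rfl | rfl | rfl
    · simp
    · exact hρθ
    · exact (Commute.mul_right hρθ hρθ).eq
  have hkρ3 : k * ρ * (k * ρ) * (k * ρ) = 1 := by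
    rw [show k * ρ * (k * ρ) * (k * ρ) = k * (ρ * k) * (ρ * k) * ρ by group, hρk,
      show k * (k * ρ) * (k * ρ) * ρ = k * k * (ρ * k) * (ρ * ρ) by group, hρk,
      show k * k * (k * ρ) * (ρ * ρ) = k * k * k * (ρ * ρ * ρ) by group, hk3, hρ3, one_mul]
  have hH : ∀ x, x ∈ Subgroup.centralizer ({z, s, t} : Set G) ⊓ Subgroup.centralizer ({θ} : Set G) ↔
      (x * z = z * x ∧ x * s = s * x ∧ x * t = t * x) ∧ x * θ = θ * x := fun x => by
    rw [Subgroup.mem_inf, Subgroup.mem_centralizer_singleton_iff, T.mem_Tgrp]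
  obtain ⟨a, ha⟩ : ∃ a, a = k * ρ := ⟨_, rfl⟩
  have haθ : a * θ = θ * a := ha ▸ (Commute.mul_left hkθ hρθ).eq
  have hkt' : ∀ x, x * θ = θ * x → x * k = k * x := fun x hx => by
    rcases hk with r | r | r <;> rw [r]
    · simp
    · exact hx
    · exact (Commute.mul_right hx hx).eq
  obtain ⟨r, hr, hre⟩ := exists_conj_of_cube
    (H := Subgroup.centralizer ({z, s, t} : Set G) ⊓ Subgroup.centralizer ({θ} : Set G))
    (T.Tgrp_isPGroup.to_le inf_le_left) (a := a) (b := ρ') (ha ▸ hkρ3) hρ'3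
    (fun x hx => by
      obtain ⟨⟨hxz, hxs, hxt⟩, hxθ⟩ := (hH x).1 hx
      have hxc : Commute x k := hkt' x hxθ
      rw [ha, show k * ρ * x * (k * ρ)⁻¹ = k * (ρ * x * ρ⁻¹) * k⁻¹ by group]
      have h1 : (ρ * x * ρ⁻¹) * θ = θ * (ρ * x * ρ⁻¹) :=
        ((Commute.mul_left hρθ hxθ).mul_left (Commute.inv_left hρθ).eq).eq
      rw [show k * (ρ * x * ρ⁻¹) * k⁻¹ = ρ * x * ρ⁻¹ by
        rw [← hkt' _ h1, mul_inv_cancel_right]]
      refine (hH _).2 ⟨⟨?_, ?_, ((Commute.mul_left hρt hxt).mul_left (Commute.inv_left hρt).eq).eq⟩, h1⟩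
      · have hzs : ρ * (z * s) * ρ⁻¹ = z := by
          rw [show ρ * (z * s) * ρ⁻¹ = ρ * z * ρ⁻¹ * (ρ * s * ρ⁻¹) by group, hρz, hρs,
            ← mul_assoc, F.s_comm, mul_assoc, F.s_mul_self, mul_one]
        have h := (Commute.conj_iff ρ).2 (show Commute x (z * s) from (Commute.mul_right hxz hxs).eq)
        rw [hzs] at h
        exact h.eq
      · have h := (Commute.conj_iff ρ).2 (show Commute x z from hxz)
        rw [hρz] at h
        exact h.eq)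
    (by
      rw [ha, mul_assoc]
      exact Subgroup.mem_inf.2 ⟨hkw, Subgroup.mem_centralizer_singleton_iff.2
        (Commute.mul_left hkθ hwθ).eq⟩)
  obtain ⟨⟨hrz, hrs, hrt⟩, hrθ⟩ := (hH r).1 hr
  obtain ⟨y, hy⟩ : ∃ y, y = r * n := ⟨_, rfl⟩
  have hyz : y * z = z * y := hy ▸ (Commute.mul_left hrz hnz).eq
  have hys : y * s = s * y := hy ▸ (Commute.mul_left hrs hns).eq
  have hyθ : y * θ * y⁻¹ = θ * θ := by
    rw [hy, show r * n * θ * (r * n)⁻¹ = r * (n * θ * n⁻¹) * r⁻¹ by group, hnθ,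
      mul_inv_eq_iff_eq_mul.2 (Commute.mul_right hrθ hrθ).eq]
  have hyρ : y * ρ * y⁻¹ = k * ρ := by
    rw [← ha, ← hre, hρ', hy]; group
  have hyk : y * k * y⁻¹ = k * k := by
    rcases hk with r | r | r <;> rw [r]
    · group
    · exact hyθ
    · rw [show y * (θ * θ) * y⁻¹ = y * θ * y⁻¹ * (y * θ * y⁻¹) by group, hyθ]
  obtain ⟨ρ2, hρ2⟩ : ∃ ρ2, ρ2 = k * k * ρ := ⟨_, rfl⟩
  have hkk : ρ * (k * k) = k * k * ρ := (Commute.mul_right hρk hρk).eq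
  have hyρ2 : y * ρ2 * y⁻¹ = ρ2 := by
    rw [hρ2, show y * (k * k * ρ) * y⁻¹ = y * k * y⁻¹ * (y * k * y⁻¹) * (y * ρ * y⁻¹) by group,
      hyρ, hyk, show k * k * (k * k) * (k * ρ) = k * k * k * (k * k * ρ) by group, hk3, one_mul]
  have hρ2θ : ρ2 * θ = θ * ρ2 :=
    hρ2 ▸ (Commute.mul_left (Commute.mul_left hkθ hkθ) hρθ).eq
  -- `y` is an involution
  have hyy : y * y = 1 := by
    have h1 : (y * y) * θ = θ * (y * y) := by
      refine mul_inv_eq_iff_eq_mul.1 ?_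
      rw [show y * y * θ * (y * y)⁻¹ = y * (y * θ * y⁻¹) * y⁻¹ by group, hyθ,
        show y * (θ * θ) * y⁻¹ = y * θ * y⁻¹ * (y * θ * y⁻¹) by group, hyθ,
        show θ * θ * (θ * θ) = θ * θ * θ * θ by group, T.θ_cube, one_mul]
    obtain ⟨l, hl, hlT⟩ := T.exists_decomp (Commute.mul_left hyz hyz).eq
      (Commute.mul_left hys hys).eq h1
    obtain ⟨-, -, hlθ, hl3⟩ := T.pow_mem hl
    have hlρ : ∀ x, x * θ = θ * x → x * l = l * x := fun x hx => by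
      rcases hl with r | r | r <;> rw [r]
      · simp
      · exact hx
      · exact (Commute.mul_right hx hx).eq
    have hyyρ : Commute (y * y) ρ := by
      have h2 : Commute y ρ2 := mul_inv_eq_iff_eq_mul.1 hyρ2
      have h3 : Commute (y * y) k := hkt' _ h1
      have h4 := ((h3.mul_right h3).inv_right).mul_right (h2.mul_left h2)
      rwa [hρ2, inv_mul_cancel_left] at h4
    have he := T.eq_one_of_rho hlT (Commute.mul_left hlθ h1).eq hρK hρ3 hρz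
      (Commute.mul_left (hlρ ρ hρθ).symm hyyρ).eq
    have hyy' : y * y = l * l := by
      calc y * y = l * l * l * (y * y) := by rw [hl3, one_mul]
        _ = l * l := by rw [mul_assoc (l * l), he, mul_one]
    have hθne := T.θ_ne_one
    rcases hl with r | r | r <;> rw [r] at hyy'
    · rw [hyy', one_mul]
    all_goals
      exfalso
      refine hθne ?_
      have hcom : y * (y * y) * y⁻¹ = y * y := by group
      rw [hyy'] at hcom
    · rw [show y * (θ * θ) * y⁻¹ = y * θ * y⁻¹ * (y * θ * y⁻¹) by group, hyθ,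
        show θ * θ * (θ * θ) = θ * θ * θ * θ by group, T.θ_cube, one_mul] at hcom
      exact right_eq_mul.1 hcom
    · rw [show θ * θ * (θ * θ) = θ * θ * θ * θ by group, T.θ_cube, one_mul, hyθ] at hcom
      exact mul_eq_left.1 hcom
  -- normalise the image
  obtain ⟨A, U, hrcl, -⟩ := T.exists_cl_T (T.mem_Tgrp.2 ⟨hrz, hrs, hrt⟩)
  have hact : ∀ v, D.act y v = sie U (pr (12, 16) v) := fun v => by
    rw [hy, D.act_mul hrz hnz, hnact, Frame.Cl.act_eq F hrcl]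
  have hUfix : sig U = U := by
    have h := T.conj_θ hrcl
    rw [mul_inv_eq_iff_eq_mul.2 hrθ.symm] at h
    exact (hrcl.unique h).2.symm
  have hUmem : U ∈ [0, mk6 4, mk6 8, mk6 12] := by
    simp only [List.mem_cons, List.not_mem_nil, or_false]
    exact fixed_U U hrcl.inU_right hUfix
  have hρ2z : ρ2 * z * ρ2⁻¹ = s := by
    rw [hρ2, show k * k * ρ * z * (k * k * ρ)⁻¹ = k * k * (ρ * z * ρ⁻¹) * (k * k)⁻¹ by group, hρz,
      mul_inv_eq_iff_eq_mul.2 (Commute.mul_left hks hks).eq]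
  have hρ2s : ρ2 * s * ρ2⁻¹ = z * s := by
    rw [hρ2, show k * k * ρ * s * (k * k * ρ)⁻¹ = k * k * (ρ * s * ρ⁻¹) * (k * k)⁻¹ by group, hρs,
      mul_inv_eq_iff_eq_mul.2 ((Commute.mul_left hkz hkz).mul_right (Commute.mul_left hks hks)).eq]
  have hρ23 : ρ2 * ρ2 * ρ2 = 1 := by
    rw [hρ2, show k * k * ρ * (k * k * ρ) * (k * k * ρ) = k * k * (ρ * (k * k)) * (ρ * (k * k)) * ρ by
      group, hkk, show k * k * (k * k * ρ) * (k * k * ρ) * ρ = k * k * (k * k) * (ρ * (k * k)) * (ρ * ρ)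
      by group, hkk, show k * k * (k * k) * (k * k * ρ) * (ρ * ρ) =
        k * k * k * (k * k * k) * (ρ * ρ * ρ) by group, hk3, hρ3, one_mul, one_mul]
  have hy2ρ : ρ2 * y = y * ρ2 := (mul_inv_eq_iff_eq_mul.1 hyρ2).symm
  rcases invol_U U hUmem (fun v => by
      rw [← hact, ← hact, ← D.act_mul hyz hyz, hyy, D.act_one]) with hU0 | hU0
  · exact ⟨y, ρ2, hyz, hys, hyy, hyθ, fun v => by rw [hact, hU0, conj_sie_facts.1], hρ23, hρ2z,
      hρ2s, hρ2θ, hy2ρ⟩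
  · obtain ⟨p, hp, hpθ⟩ := T.exists_p4
    have hpz := hp.comm_z
    have hps := hp.comm_s
    have hpiz := (Commute.inv_left hpz).eq
    have hzi : p⁻¹ * z * p = z := by rw [mul_assoc, ← hpz, inv_mul_cancel_left]
    have hsi : p⁻¹ * s * p = s := by rw [mul_assoc, ← hps, inv_mul_cancel_left]
    have hθc : p * θ * p⁻¹ = θ := mul_inv_eq_iff_eq_mul.2 hpθ
    refine ⟨p * y * p⁻¹, p * ρ2 * p⁻¹, (Commute.mul_left (Commute.mul_left hpz hyz) hpiz).eq,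
      (Commute.mul_left (Commute.mul_left hps hys) (Commute.inv_left hps).eq).eq, ?_, ?_,
      fun v => ?_, ?_, ?_, ?_, ?_, ?_⟩
    · rw [show p * y * p⁻¹ * (p * y * p⁻¹) = p * (y * y) * p⁻¹ by group, hyy]; group
    · rw [show p * y * p⁻¹ * θ * (p * y * p⁻¹)⁻¹ = p * (y * (p⁻¹ * θ * p) * y⁻¹) * p⁻¹ by group,
        show p⁻¹ * θ * p = θ by rw [mul_assoc, ← hpθ, inv_mul_cancel_left], hyθ,
        show p * (θ * θ) * p⁻¹ = p * θ * p⁻¹ * (p * θ * p⁻¹) by group, hθc]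
    · rw [D.act_mul (Commute.mul_left hpz hyz).eq hpiz, D.act_mul hpz hyz, hact, hU0,
        Frame.Cl.act_eq F hp.inv, Frame.Cl.act_eq F hp, conj_sie_facts.2.1]
    · rw [show p * ρ2 * p⁻¹ * (p * ρ2 * p⁻¹) * (p * ρ2 * p⁻¹) = p * (ρ2 * ρ2 * ρ2) * p⁻¹ by group,
        hρ23]; group
    · rw [show p * ρ2 * p⁻¹ * z * (p * ρ2 * p⁻¹)⁻¹ = p * (ρ2 * (p⁻¹ * z * p) * ρ2⁻¹) * p⁻¹ by group,
        hzi, hρ2z, mul_inv_eq_iff_eq_mul.2 hps]
    · rw [show p * ρ2 * p⁻¹ * s * (p * ρ2 * p⁻¹)⁻¹ = p * (ρ2 * (p⁻¹ * s * p) * ρ2⁻¹) * p⁻¹ by group,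
        hsi, hρ2s, mul_inv_eq_iff_eq_mul.2 (Commute.mul_right hpz hps).eq]
    · have h := (Commute.conj_iff p).2 (show Commute ρ2 θ from hρ2θ)
      rw [hθc] at h; exact h.eq
    · exact ((Commute.conj_iff p).2 (show Commute ρ2 y from hy2ρ)).eq

end Four

end CfsgLib.SuzType
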