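import Cfsg.Agent.SuzRecognition.Defs
import Cfsg.Agent.SuzRecognition.CertCox
import Cfsg.Agent.SuzRecognition.CertPow
import Cfsg.Agent.SuzRecognition.CertComm
import Cfsg.Agent.SuzRecognition.CertConj
import Cfsg.Agent.SuzRecognition.CertFix

/-!
# The last relator of the Suzuki group
-/

set_option autoImplicit false
set_option linter.unusedSimpArgs false
set_option linter.unusedSectionVars false
set_option linter.unnecessarySimpa false
set_option maxHeartbeats 1000000

namespace CfsgLib.SuzRecognition

open Cert

variable {G : Type*} [Group G]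

theorem word_sq_of_comm {x y : G} (hx : x * x = 1) (hy : y * y = 1) (h : x * y = y * x) :
    x * (y * (x * y)) = 1 := by
  rw [← mul_assoc y x y, ← h, mul_assoc x y y, hy, mul_one, hx]

theorem involutions_list {l : List G} (h : ∀ x ∈ l, x * x = 1) :
    ∀ x, x < 8 → letters l x * letters l x = 1 := fun x _ => letters_inv h x

theorem inv_of_sq {x : G} (hx : x * x = 1) : x⁻¹ = x := inv_eq_of_mul_eq_one_right hx

namespace Rels

variable {a b c d e f g : G} (R : Rels a b c d e f g)
include R

/-- Consequences of the icosahedral relations. -/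
theorem abc_facts : (a * b * c) ^ 10 = 1 ∧
    (a * b * c) ^ 5 * (a * b) = a * b * (a * b * c) ^ 5 := by
  have hinv := involutions_list (l := [a, b, c]) (by simp [R.aa, R.bb, R.cc])
  have hrel : ∀ w ∈ Cox.rs, prodw (letters [a, b, c]) w = 1 := by
    simp only [Cox.rs, List.forall_mem_cons, List.forall_mem_nil, and_true]
    refine ⟨?_, ?_, ?_, ?_, ?_, ?_⟩
    · simpa [prodw, letters] using R.aa
    · simpa [prodw, letters, pow_succ, mul_assoc] using R.ab
    · simpa [prodw, letters] using word_sq_of_comm R.aa R.cc R.ac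
    · simpa [prodw, letters] using R.bb
    · simpa [prodw, letters, pow_succ, mul_assoc] using R.bc
    · simpa [prodw, letters] using R.cc
  have h0 := Cox.mem0 (H := (⊥ : Subgroup G)) hinv hrel (by simp [Cox.ss])
  have h1 := Cox.mem1 (H := (⊥ : Subgroup G)) hinv hrel (by simp [Cox.ss])
  rw [Subgroup.mem_bot] at h0 h1
  refine ⟨by simpa [prodw, letters, Cox.target0, pow_succ, mul_assoc] using h0, ?_⟩
  have e : (a * b * c) ^ 5 * (a * b) * ((a * b * c) ^ 5)⁻¹ * (a * b)⁻¹ = 1 := by
    simpa [prodw, letters, Cox.target1, pow_succ, mul_assoc, inv_of_sq R.aa, inv_of_sq R.bb,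
      inv_of_sq R.cc] using h1
  exact mul_inv_eq_iff_eq_mul.1 (mul_inv_eq_one.1 e)

theorem seven_eq : sevenWord b c d = (b * c * (d * c * d)) ^ 5 := by
  simp [sevenWord, mul_assoc]

theorem seven_inv : (sevenWord b c d)⁻¹ = (d * c * d * c * b) ^ 5 := by
  rw [R.seven_eq, ← inv_pow]
  congr 1
  simp [inv_of_sq R.bb, inv_of_sq R.cc, inv_of_sq R.dd, mul_assoc]

theorem uu : d * c * d * (d * c * d) = 1 := by
  rw [show d * c * d * (d * c * d) = d * c * (d * d) * c * d by group, R.dd, mul_one,
    mul_assoc d c c, R.cc, mul_one, R.dd]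

/-- The relations of `a`, `b`, `c` and `u`. -/
theorem u_rels : a * (d * c * d) = d * c * d * a ∧ (b * (d * c * d)) ^ 3 = 1 ∧
    (c * (d * c * d)) ^ 4 = 1 ∧ a * (d * c * d) * c * (d * c * d) * c = 1 := by
  have ha : a * (d * c * d) = d * c * d * a := by
    rw [← mul_assoc, ← mul_assoc, R.ad, mul_assoc d a c, R.ac, mul_assoc d (c * a) d,
      mul_assoc c a d, R.ad, ← mul_assoc c d a, ← mul_assoc d]
    simp [mul_assoc]
  have hcu : (c * (d * c * d)) ^ 2 = a := by
    rw [R.a_cd]; simp [pow_succ, mul_assoc]
  refine ⟨ha, ?_, ?_, ?_⟩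
  · have hd : d⁻¹ = d := inv_of_sq R.dd
    have e : b * (d * c * d) = d * (b * c) * d⁻¹ := by
      rw [hd, ← mul_assoc b, ← mul_assoc b, R.bd, mul_assoc d b c]
    rw [e, conj_pow, R.bc, mul_one, mul_inv_cancel]
  · rw [show (4 : ℕ) = 2 * 2 from rfl, pow_mul, hcu, pow_two, R.aa]
  · have hinv : (c * (d * c * d))⁻¹ = d * c * d * c := by
      simp [inv_of_sq R.cc, inv_of_sq R.dd, mul_assoc]
    rw [show a * (d * c * d) * c * (d * c * d) * c = a * (d * c * d * c) ^ 2 by
      simp [pow_two, mul_assoc], ← hinv, inv_pow, hcu, mul_inv_cancel]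

/-- The seventh word commutes with `a`, `b`, `c` up to its own powers. -/
theorem seven_comm_zpowers (h5 : (a * b * c) ^ 5 = 1) :
    ∀ x ∈ ([a, b, c] : List G),
      sevenWord b c d * x * (sevenWord b c d)⁻¹ * x ∈ Subgroup.zpowers (sevenWord b c d) := by
  obtain ⟨hau, hbu, hcu, hex⟩ := R.u_rels
  have hinv := involutions_list (l := [a, b, c, d * c * d]) (by simp [R.aa, R.bb, R.cc, R.uu])
  have hrel : ∀ w ∈ Comm.rs, prodw (letters [a, b, c, d * c * d]) w = 1 := by
    simp only [Comm.rs, List.forall_mem_cons, List.forall_mem_nil, and_true]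
    refine ⟨?_, ?_, ?_, ?_, ?_, ?_, ?_, ?_, ?_, ?_, ?_, ?_⟩
    · simpa [prodw, letters] using R.aa
    · simpa [prodw, letters, pow_succ, mul_assoc] using R.ab
    · simpa [prodw, letters] using word_sq_of_comm R.aa R.cc R.ac
    · simpa [prodw, letters, mul_assoc] using word_sq_of_comm R.aa R.uu hau
    · simpa [prodw, letters] using R.bb
    · simpa [prodw, letters, pow_succ, mul_assoc] using R.bc
    · simpa [prodw, letters, pow_succ, mul_assoc] using hbu
    · simpa [prodw, letters] using R.cc
    · simpa [prodw, letters, pow_succ, mul_assoc] using hcu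
    · simpa [prodw, letters, mul_assoc] using R.uu
    · simpa [prodw, letters, pow_succ, mul_assoc] using h5
    · simpa [prodw, letters, mul_assoc] using hex
  have hsub : ∀ w ∈ Comm.ss, prodw (letters [a, b, c, d * c * d]) w ∈
      Subgroup.zpowers (sevenWord b c d) := by
    simp only [Comm.ss, List.forall_mem_cons, List.forall_mem_nil, and_true]
    have := Subgroup.mem_zpowers (sevenWord b c d)
    simpa [prodw, letters, pow_succ, mul_assoc, R.seven_eq] using this
  simp only [List.forall_mem_cons, List.forall_mem_nil, and_true]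
  have h0 := Comm.mem0 hinv hrel hsub
  have h1 := Comm.mem1 hinv hrel hsub
  have h2 := Comm.mem2 hinv hrel hsub
  rw [R.seven_inv]
  refine ⟨?_, ?_, ?_⟩
  · simpa [prodw, letters, Comm.target0, pow_succ, mul_assoc, R.seven_eq] using h0
  · simpa [prodw, letters, Comm.target1, pow_succ, mul_assoc, R.seven_eq] using h1
  · simpa [prodw, letters, Comm.target2, pow_succ, mul_assoc, R.seven_eq] using h2

/-- The cube of the seventh word. -/
theorem seven_cube_mem (h5 : (a * b * c) ^ 5 = 1) :
    sevenWord b c d ^ 3 ∈ Subgroup.closure ({a, b} : Set G) := by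
  obtain ⟨hau, hbu, hcu, hex⟩ := R.u_rels
  have hinv := involutions_list (l := [a, b, c, d * c * d]) (by simp [R.aa, R.bb, R.cc, R.uu])
  have hrel : ∀ w ∈ Pow.rs, prodw (letters [a, b, c, d * c * d]) w = 1 := by
    simp only [Pow.rs, List.forall_mem_cons, List.forall_mem_nil, and_true]
    refine ⟨?_, ?_, ?_, ?_, ?_, ?_, ?_, ?_, ?_, ?_, ?_, ?_⟩
    · simpa [prodw, letters] using R.aa
    · simpa [prodw, letters, pow_succ, mul_assoc] using R.ab
    · simpa [prodw, letters] using word_sq_of_comm R.aa R.cc R.ac
    · simpa [prodw, letters, mul_assoc] using word_sq_of_comm R.aa R.uu hau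
    · simpa [prodw, letters] using R.bb
    · simpa [prodw, letters, pow_succ, mul_assoc] using R.bc
    · simpa [prodw, letters, pow_succ, mul_assoc] using hbu
    · simpa [prodw, letters] using R.cc
    · simpa [prodw, letters, pow_succ, mul_assoc] using hcu
    · simpa [prodw, letters, mul_assoc] using R.uu
    · simpa [prodw, letters, pow_succ, mul_assoc] using h5
    · simpa [prodw, letters, mul_assoc] using hex
  have hsub : ∀ w ∈ Pow.ss, prodw (letters [a, b, c, d * c * d]) w ∈
      Subgroup.closure ({a, b} : Set G) := by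
    intro w hw
    simp only [Pow.ss, List.mem_cons, List.not_mem_nil, or_false] at hw
    refine Subgroup.subset_closure ?_
    rcases hw with rfl | rfl <;> simp [prodw, letters]
  simpa [prodw, letters, Pow.target0, pow_succ, mul_assoc, R.seven_eq] using
    Pow.mem0 hinv hrel hsub

/-- A conjugate of `f` by the seventh word. -/
theorem seven_conj_mem :
    (sevenWord b c d)⁻¹ * f * sevenWord b c d ∈ Subgroup.closure ({a, b, c, f} : Set G) := by
  obtain ⟨hau, hbu, hcu, hex⟩ := R.u_rels
  have huf : d * c * d * f = f * (d * c * d) :=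
    (Commute.mul_left (Commute.mul_left R.df R.cf) R.df).eq
  have habuf : (a * b * (d * c * d) * f) ^ 5 = 1 := by
    have e : a * b * (d * c * d) * f = d * (a * b * c * f) * d⁻¹ := by
      rw [inv_of_sq R.dd, show a * b * (d * c * d) * f = (a * b) * d * c * (d * f) by
        simp [mul_assoc], R.df, (Commute.mul_left R.ad R.bd).eq]
      simp [mul_assoc]
    rw [e, conj_pow, R.abcf, mul_one, mul_inv_cancel]
  have hinv := involutions_list (l := [a, b, c, d * c * d, f])
    (by simp [R.aa, R.bb, R.cc, R.uu, R.ff])
  have hrel : ∀ w ∈ Conj.rs, prodw (letters [a, b, c, d * c * d, f]) w = 1 := by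
    simp only [Conj.rs, List.forall_mem_cons, List.forall_mem_nil, and_true]
    refine ⟨?_, ?_, ?_, ?_, ?_, ?_, ?_, ?_, ?_, ?_, ?_, ?_, ?_, ?_, ?_, ?_, ?_, ?_⟩
    · simpa [prodw, letters] using R.aa
    · simpa [prodw, letters, pow_succ, mul_assoc] using R.ab
    · simpa [prodw, letters] using word_sq_of_comm R.aa R.cc R.ac
    · simpa [prodw, letters, mul_assoc] using word_sq_of_comm R.aa R.uu hau
    · simpa [prodw, letters] using word_sq_of_comm R.aa R.ff R.af
    · simpa [prodw, letters] using R.bb
    · simpa [prodw, letters, pow_succ, mul_assoc] using R.bc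
    · simpa [prodw, letters, pow_succ, mul_assoc] using hbu
    · simpa [prodw, letters, pow_succ, mul_assoc] using R.bf
    · simpa [prodw, letters] using R.cc
    · simpa [prodw, letters, pow_succ, mul_assoc] using hcu
    · simpa [prodw, letters] using word_sq_of_comm R.cc R.ff R.cf
    · simpa [prodw, letters, mul_assoc] using R.uu
    · simpa [prodw, letters, mul_assoc] using word_sq_of_comm R.uu R.ff huf
    · simpa [prodw, letters] using R.ff
    · simpa [prodw, letters, pow_succ, mul_assoc] using R.abcf
    · simpa [prodw, letters, pow_succ, mul_assoc] using habuf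
    · simpa [prodw, letters, mul_assoc] using hex
  have hsub : ∀ w ∈ Conj.ss, prodw (letters [a, b, c, d * c * d, f]) w ∈
      Subgroup.closure ({a, b, c, f} : Set G) := by
    intro w hw
    simp only [Conj.ss, List.mem_cons, List.not_mem_nil, or_false] at hw
    refine Subgroup.subset_closure ?_
    rcases hw with rfl | rfl | rfl | rfl <;> simp [prodw, letters]
  rw [R.seven_inv]
  simpa [prodw, letters, Conj.target0, pow_succ, mul_assoc, R.seven_eq] using
    Conj.mem0 hinv hrel hsub

/-- If the seventh word centralises `e` then `d * c * d` does. -/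
theorem conj_comm_of_seven (h : sevenWord b c d * e = e * sevenWord b c d) :
    d * c * d * e = e * (d * c * d) := by
  have hinv := involutions_list (l := [a, b, c, d, e, f, g])
    (by simp [R.aa, R.bb, R.cc, R.dd, R.ee, R.ff, R.gg])
  have hwe : sevenWord b c d * e * (sevenWord b c d)⁻¹ * e = 1 := by
    rw [h, mul_inv_cancel_right, R.ee]
  have hwi : (sevenWord b c d)⁻¹ = (d * (c * (d * (c * b)))) ^ 5 := by
    rw [R.seven_inv]; simp [mul_assoc]
  rw [hwi] at hwe
  have hrel : ∀ w ∈ Fix.rs, prodw (letters [a, b, c, d, e, f, g]) w = 1 := by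
    simp only [Fix.rs, List.forall_mem_cons, List.forall_mem_nil, and_true]
    refine ⟨?_, ?_, ?_, ?_, ?_, ?_, ?_, ?_, ?_, ?_, ?_, ?_, ?_, ?_, ?_, ?_, ?_, ?_, ?_, ?_, ?_, ?_,
      ?_, ?_, ?_, ?_, ?_, ?_, ?_, ?_, ?_, ?_, ?_, ?_⟩
    · simpa [prodw, letters] using R.aa
    · simpa [prodw, letters, pow_succ, mul_assoc] using R.ab
    · simpa [prodw, letters] using word_sq_of_comm R.aa R.cc R.ac
    · simpa [prodw, letters] using word_sq_of_comm R.aa R.dd R.ad
    · simpa [prodw, letters] using word_sq_of_comm R.aa R.ee R.ae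
    · simpa [prodw, letters] using word_sq_of_comm R.aa R.ff R.af
    · simpa [prodw, letters] using word_sq_of_comm R.aa R.gg R.ag
    · simpa [prodw, letters] using R.bb
    · simpa [prodw, letters, pow_succ, mul_assoc] using R.bc
    · simpa [prodw, letters] using word_sq_of_comm R.bb R.dd R.bd
    · simpa [prodw, letters] using word_sq_of_comm R.bb R.ee R.be
    · simpa [prodw, letters, pow_succ, mul_assoc] using R.bf
    · simpa [prodw, letters, pow_succ, mul_assoc] using R.bg
    · simpa [prodw, letters] using R.cc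
    · simpa [prodw, letters, pow_succ, mul_assoc] using R.cd
    · simpa [prodw, letters] using word_sq_of_comm R.cc R.ee R.ce
    · simpa [prodw, letters] using word_sq_of_comm R.cc R.ff R.cf
    · simpa [prodw, letters] using word_sq_of_comm R.cc R.gg R.cg
    · simpa [prodw, letters] using R.dd
    · simpa [prodw, letters, pow_succ, mul_assoc] using R.de
    · simpa [prodw, letters] using word_sq_of_comm R.dd R.ff R.df
    · simpa [prodw, letters] using word_sq_of_comm R.dd R.gg R.dg
    · simpa [prodw, letters] using R.ee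
    · simpa [prodw, letters] using word_sq_of_comm R.ee R.ff R.ef
    · simpa [prodw, letters] using word_sq_of_comm R.ee R.gg R.eg
    · simpa [prodw, letters] using R.ff
    · simpa [prodw, letters, pow_succ, mul_assoc] using R.fg
    · simpa [prodw, letters] using R.gg
    · have e' : a * ((c * d) ^ 4)⁻¹ = 1 := by rw [← R.a_cd, mul_inv_cancel]
      simpa [prodw, letters, pow_succ, mul_assoc, inv_of_sq R.cc, inv_of_sq R.dd] using e'
    · have e' : a * ((f * g) ^ 2)⁻¹ = 1 := by rw [← R.a_fg, mul_inv_cancel]
      simpa [prodw, letters, pow_succ, mul_assoc, inv_of_sq R.ff, inv_of_sq R.gg] using e'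
    · simpa [prodw, letters, pow_succ, mul_assoc] using R.abcf
    · simpa [prodw, letters, pow_succ, mul_assoc] using R.abcg
    · simpa [prodw, letters, pow_succ, mul_assoc] using R.bfg
    · simpa [prodw, letters, pow_succ, mul_assoc, sevenWord] using hwe
  have hsub : ∀ w ∈ Fix.ss, prodw (letters [a, b, c, d, e, f, g]) w ∈
      Subgroup.centralizer ({e} : Set G) := by
    simp only [Fix.ss, List.forall_mem_cons, List.forall_mem_nil, and_true,
      Subgroup.mem_centralizer_singleton_iff]
    refine ⟨?_, ?_, ?_, ?_, ?_, ?_, ?_⟩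
    · simpa [prodw, letters] using R.ae
    · simpa [prodw, letters] using R.be
    · simpa [prodw, letters] using R.ce
    · simp [prodw, letters]
    · simpa [prodw, letters] using R.ef.symm
    · simpa [prodw, letters] using R.eg.symm
    · simpa [prodw, letters, pow_succ, mul_assoc, sevenWord] using h
  simpa [prodw, letters, Fix.target0, mul_assoc] using
    Subgroup.mem_centralizer_singleton_iff.1 (Fix.mem0 hinv hrel hsub)

end Rels

end CfsgLib.SuzRecognition
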